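import Groth.Agent.DualShriek.DQ
import Groth.Agent.DerivedCoh.PerfPush.ProperSupp

/-!
The twisted inverse image and the coherator exist, by Brown representability.
-/

universe u v w

open CategoryTheory CategoryTheory.Limits CategoryTheory.Pretriangulated AlgebraicGeometry

attribute [local instance] HasDerivedCategory.standard

set_option backward.isDefEq.respectTransparency false

namespace Groth.DualShriek

variable {X Y : Scheme.{u}} (f : X ⟶ Y) [DCoh.HasRpush f] (h : DCoh.RpushPreservesQCoh f)

/-- `Rf_*` on `D_QCoh` preserves direct sums. -/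
theorem preservesCoproducts_RpushQ [QuasiCompact f] [QuasiSeparated f] (κ : Type u) :
    PreservesColimitsOfShape (Discrete κ) (DCoh.RpushQ f h) := by
  haveI : PreservesColimitsOfShape (Discrete κ) (DCoh.RpushQ f h ⋙ (DCoh.IsQCohD (X := Y)).ι) := by
    show PreservesColimitsOfShape (Discrete κ) ((DCoh.IsQCohD (X := X)).ι ⋙ DCoh.Rpush f)
    suffices ∀ K : κ → DCoh.DQCoh X,
        PreservesColimit (Discrete.functor K) ((DCoh.IsQCohD (X := X)).ι ⋙ DCoh.Rpush f) from
      ⟨fun {K} => preservesColimit_of_iso_diagram _ (Discrete.natIsoFunctor (F := K)).symm⟩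
    intro K
    let L := fun i => (K i).obj
    haveI : IsIso (sigmaComparison (DCoh.Rpush f) L) :=
      Groth.Misc4.RpushCoprod.isIso_sigmaDesc f L fun i => (K i).property
    haveI : PreservesColimit (Discrete.functor L) (DCoh.Rpush f) :=
      PreservesCoproduct.of_iso_comparison _ _
    haveI : PreservesColimit (Discrete.functor K ⋙ (DCoh.IsQCohD (X := X)).ι) (DCoh.Rpush f) :=
      preservesColimit_of_iso_diagram _ (Discrete.natIso fun _ => Iso.refl _ :
        Discrete.functor L ≅ Discrete.functor K ⋙ (DCoh.IsQCohD (X := X)).ι)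
    exact comp_preservesColimit _ _
  exact preservesColimitsOfShape_of_reflects_of_preserves _ (DCoh.IsQCohD (X := Y)).ι

/-- A functor preserving small direct sums is additive. -/
theorem additive_of_preservesCoproducts {D : Type*} [Category* D] [Preadditive D] [HasFiniteBiproducts D]
    {D' : Type*} [Category* D'] [Preadditive D'] [HasZeroObject D'] (F : D ⥤ D')
    (hF : ∀ κ : Type u, PreservesColimitsOfShape (Discrete κ) F) : F.Additive := by
  haveI := hF
  haveI : HasBinaryBiproducts D := hasBinaryBiproducts_of_finite_biproducts D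
  haveI : PreservesColimitsOfShape (Discrete WalkingPair) F :=
    preservesColimitsOfShape_of_equiv (Discrete.equivalence (Equiv.ulift.{u} (α := WalkingPair))) F
  haveI : PreservesColimitsOfShape (Discrete PEmpty.{1}) F :=
    preservesColimitsOfShape_of_equiv (Discrete.equivalence (Equiv.equivPEmpty PEmpty.{u + 1})) F
  haveI : F.PreservesZeroMorphisms := Functor.preservesZeroMorphisms_of_preserves_initial_object
  haveI : PreservesBinaryBiproducts F := preservesBinaryBiproducts_of_preservesBinaryCoproducts F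
  exact Functor.additive_of_preservesBinaryBiproducts F

/-- `Rf_*` on `D_QCoh` maps triangles to triangles. -/
theorem exists_triangle_RpushQ (T : Triangle (DCoh.DQCoh X)) (hT : T ∈ distTriang (DCoh.DQCoh X)) :
    ∃ c : (DCoh.RpushQ f h).obj T.obj₃ ⟶ ((DCoh.RpushQ f h).obj T.obj₁)⟦(1 : ℤ)⟧,
      Triangle.mk ((DCoh.RpushQ f h).map T.mor₁) ((DCoh.RpushQ f h).map T.mor₂) c ∈
        distTriang (DCoh.DQCoh Y) := by
  obtain ⟨c, hc⟩ := Groth.DerivedCoh.PerfPush.exists_distinguished f _
    ((DCoh.IsQCohD (X := X)).ι.map_distinguished T hT)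
  let e := ((DCoh.IsQCohD (X := Y)).ι.commShiftIso (1 : ℤ)).app ((DCoh.RpushQ f h).obj T.obj₁)
  refine ⟨ObjectProperty.homMk (c ≫ e.inv), ?_⟩
  refine (Functor.map_distinguished_iff (DCoh.IsQCohD (X := Y)).ι _).1 ?_
  refine isomorphic_distinguished _ hc _
    (Triangle.isoMk _ _ (Iso.refl _) (Iso.refl _) (Iso.refl _) (by simp; rfl) (by simp; rfl) ?_)
  dsimp
  rw [CategoryTheory.Functor.map_id, Category.comp_id, Category.id_comp]
  show (c ≫ e.inv) ≫ e.hom = c
  rw [Category.assoc, Iso.inv_hom_id, Category.comp_id]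

/-- The twisted inverse image exists. -/
theorem isLeftAdjoint_RpushQ [CompactSpace X] [QuasiSeparatedSpace X] [QuasiCompact f] [QuasiSeparated f] :
    (DCoh.RpushQ f h).IsLeftAdjoint := by
  haveI : ∀ κ : Type u, PreservesColimitsOfShape (Discrete κ) (DCoh.RpushQ f h) :=
    fun κ => preservesCoproducts_RpushQ f h κ
  haveI := additive_of_preservesCoproducts.{u} (DCoh.RpushQ f h) this
  exact isLeftAdjoint _ (exists_triangle_RpushQ f h)

/-- The coherator exists. -/
theorem isLeftAdjoint_ι (X : Scheme.{u}) [CompactSpace X] [QuasiSeparatedSpace X] :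
    (DCoh.IsQCohD (X := X)).ι.IsLeftAdjoint :=
  isLeftAdjoint _ fun T hT => ⟨_, (DCoh.IsQCohD (X := X)).ι.map_distinguished T hT⟩

end Groth.DualShriek
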