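import Groth.Agent.DerivedCoh.CoprodTriangle
import Mathlib.Algebra.Group.Shrink
import Mathlib.CategoryTheory.EssentiallySmall
import Mathlib.CategoryTheory.Triangulated.Yoneda
import Mathlib.CategoryTheory.Triangulated.Opposite.Pretriangulated
import Mathlib.CategoryTheory.Limits.Preserves.Shapes.Products
import Mathlib.CategoryTheory.Limits.Shapes.Opposites.Products
import Mathlib.CategoryTheory.Limits.Types.Limits
import Mathlib.CategoryTheory.Yoneda
import Mathlib.Algebra.Category.Grp.Limits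
import Mathlib.Algebra.Homology.ShortComplex.Ab

/-!
Brown representability for triangulated categories with small (not necessarily hom-universe small) morphism
sets and a perfectly generating family; adapted from `Groth.Agent.DerivedCoh.Brown`.
-/

universe w v u

namespace Groth.DualShriek.Brown

open CategoryTheory CategoryTheory.Limits CategoryTheory.Pretriangulated ZeroObject
open CategoryTheory.Pretriangulated.Opposite
open Groth.DerivedCoh

variable {D : Type u} [Category.{w} D] [Preadditive D] [HasZeroObject D] [HasShift D ℤ]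
  [∀ n : ℤ, (shiftFunctor D n).Additive] [Pretriangulated D]

variable (H : Dᵒᵖ ⥤ AddCommGrpCat.{v})

/-- pullback of a class -/
abbrev pb {X Y : D} (f : X ⟶ Y) (y : H.obj (Opposite.op Y)) : H.obj (Opposite.op X) :=
  (H.map f.op) y

lemma pb_comp {X Y Z : D} (f : X ⟶ Y) (g : Y ⟶ Z) (z : H.obj (Opposite.op Z)) :
    pb H (f ≫ g) z = pb H f (pb H g z) :=
  ConcreteCategory.congr_hom (H.map_comp g.op f.op) z

lemma pb_id {X : D} (x : H.obj (Opposite.op X)) : pb H (𝟙 X) x = x := by
  simp [pb]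

lemma pb_zero_left [H.IsHomological] {X Y : D} (y : H.obj (Opposite.op Y)) :
    pb H (0 : X ⟶ Y) y = 0 := by
  simp [pb]

lemma pb_sub [H.IsHomological] {X Y : D} (f g : X ⟶ Y) (y : H.obj (Opposite.op Y)) :
    pb H (f - g) y = pb H f y - pb H g y := by
  simp [pb, H.map_sub, sub_eq_add_neg, H.map_neg]

lemma pb_add [H.IsHomological] {X Y : D} (f g : X ⟶ Y) (y : H.obj (Opposite.op Y)) :
    pb H (f + g) y = pb H f y + pb H g y := by
  simp [pb, H.map_add]

lemma pb_neg [H.IsHomological] {X Y : D} (f : X ⟶ Y) (y : H.obj (Opposite.op Y)) :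
    pb H (-f) y = - pb H f y := by
  simp [pb, H.map_neg]

lemma exists_of_pb_eq_zero [H.IsHomological] (T : Triangle D) (hT : T ∈ distTriang D)
    (y : H.obj (Opposite.op T.obj₂)) (hy : pb H T.mor₁ y = 0) :
    ∃ z : H.obj (Opposite.op T.obj₃), pb H T.mor₂ z = y :=
  (ShortComplex.ab_exact_iff _).1 (H.map_distinguished_op_exact T hT) y hy

/-- extensionality of classes on a coproduct -/
lemma existsUnique_glue {T : Type*} (f : T → D) [HasCoproduct f]
    [PreservesLimit (Discrete.functor fun t => Opposite.op (f t)) H]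
    (a : ∀ t, H.obj (Opposite.op (f t))) :
    ∃! x : H.obj (Opposite.op (∐ f)), ∀ t, pb H (Limits.Sigma.ι f t) x = a t := by
  let c := (Cofan.mk (∐ f) (Limits.Sigma.ι f)).op
  have hc : IsLimit ((H ⋙ forget AddCommGrpCat.{v}).mapCone c) :=
    isLimitOfPreserves (forget _) (isLimitOfPreserves H (Cofan.IsColimit.op (coproductIsCoproduct f)))
  obtain ⟨x, hx, hx'⟩ := (Types.isLimit_iff _).1 ⟨hc⟩ (fun t => a t.as) (by
    rintro ⟨t⟩ ⟨t'⟩ φ
    obtain rfl : t = t' := Discrete.eq_of_hom φ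
    simp)
  exact ⟨x, fun t => hx ⟨t⟩, fun x' hx'' => hx' x' fun t => hx'' t.as⟩

lemma glue_ext {T : Type*} (f : T → D) [HasCoproduct f]
    [PreservesLimit (Discrete.functor fun t => Opposite.op (f t)) H]
    {x y : H.obj (Opposite.op (∐ f))}
    (h : ∀ t, pb H (Limits.Sigma.ι f t) x = pb H (Limits.Sigma.ι f t) y) : x = y :=
  (existsUnique_glue H f fun t => pb H (Limits.Sigma.ι f t) y).unique h fun _ => rfl

variable {κ : Type v} (E : κ → D)

/-- the property `h2` of a family -/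
def Perfect [HasColimitsOfShape (Discrete ℕ) D] (E : κ → D) : Prop :=
  ∀ (X : ℕ → D) (i : κ) (α : E i ⟶ ∐ X), ∃ (j : ℕ → κ) (β : ∀ n, E (j n) ⟶ X n)
    (γ : E i ⟶ ∐ (fun n => E (j n))), α = γ ≫ Limits.Sigma.map β

/-- a class inducing bijections on the family -/
def Good (X : D) (x : H.obj (Opposite.op X)) : Prop :=
  ∀ i, Function.Bijective fun f : E i ⟶ X => pb H f x

variable [H.IsHomological] [HasCoproducts.{v} D] [LocallySmall.{v} D]
  [∀ (κ' : Type v), PreservesLimitsOfShape (Discrete κ') H]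

/-- one step of the tower -/
lemma exists_step (X : D) (x : H.obj (Opposite.op X)) :
    ∃ (X' : D) (t : X ⟶ X') (x' : H.obj (Opposite.op X')), pb H t x' = x ∧
      ∀ i (f : E i ⟶ X), pb H f x = 0 → f ≫ t = 0 := by
  let P := {p : Σ i, Shrink.{v} (E i ⟶ X) // pb H ((equivShrink _).symm p.2) x = 0}
  let f : P → D := fun p => E p.1.1
  let g : (∐ f) ⟶ X := Limits.Sigma.desc fun p => (equivShrink _).symm p.1.2
  obtain ⟨X', t, δ, hT⟩ := distinguished_cocone_triangle g
  have hg : pb H g x = 0 := by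
    refine glue_ext H f fun p => ?_
    rw [← pb_comp, Limits.Sigma.ι_desc, p.2]
    exact (map_zero (H.map (Limits.Sigma.ι f p).op).hom).symm
  obtain ⟨x', hx'⟩ := exists_of_pb_eq_zero H _ hT x hg
  refine ⟨X', t, x', hx', fun i φ hφ => ?_⟩
  have := congrArg (Limits.Sigma.ι f ⟨⟨i, equivShrink _ φ⟩, by simpa using hφ⟩ ≫ ·) (comp_distTriang_mor_zero₁₂ _ hT)
  simp only [g] at this
  erw [Limits.Sigma.ι_desc_assoc, comp_zero] at this
  exact (congrArg (· ≫ t) (Equiv.symm_apply_apply (equivShrink (E i ⟶ X)) φ)).symm.trans this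

section

variable [HasColimitsOfShape (Discrete ℕ) D] [PreservesLimitsOfShape (Discrete ℕ) H]

variable (hE : Perfect E) (hs : ∀ i, ∃ j, Nonempty (E j ≅ (E i)⟦(-1 : ℤ)⟧))
  (h1 : ∀ X : D, ¬ IsZero X → ∃ (i : κ) (f : E i ⟶ X), f ≠ 0)

include hE hs in
lemma good_of_tower (X : ℕ → D) (t : ∀ n, X n ⟶ X (n + 1)) (x : ∀ n, H.obj (Opposite.op (X n)))
    (ht : ∀ n, pb H (t n) (x (n + 1)) = x n)
    (hk : ∀ n i (f : E i ⟶ X n), pb H f (x n) = 0 → f ≫ t n = 0)
    (hsur : ∀ i a, ∃ f : E i ⟶ X 0, pb H f (x 0) = a) :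
    ∃ (Y : D) (q : X 0 ⟶ Y) (y : H.obj (Opposite.op Y)), pb H q y = x 0 ∧ Good H E Y y := by
  have hsur' : ∀ m i a, ∃ f : E i ⟶ X m, pb H f (x m) = a := fun m => by
    induction m with
    | zero => exact hsur
    | succ m ih =>
      intro i a
      obtain ⟨f, hf⟩ := ih i a
      exact ⟨f ≫ t m, by rw [pb_comp, ht, hf]⟩
  let sh : (∐ X) ⟶ ∐ X := Limits.Sigma.desc fun n => t n ≫ Limits.Sigma.ι X (n + 1)
  let g : (∐ X) ⟶ ∐ X := 𝟙 _ - sh
  have hinj : ∀ i (α : E i ⟶ ∐ X), α ≫ g = 0 → α = 0 := fun i α hα => by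
    obtain ⟨j, β, γ, rfl⟩ := hE X i α
    choose L hL using fun n m => hsur' m (j n) (pb H (β n) (x n))
    let P : ℕ → D := fun n => match n with
      | 0 => 0
      | n + 1 => E (j n)
    let σ : ∀ n, P n ⟶ X n := fun n => match n with
      | 0 => 0
      | n + 1 => -(β n ≫ t n)
    let B : ℕ → D := fun n => E (j n) ⊞ P n
    let ρ : ∀ n, B n ⟶ X n := fun n => biprod.desc (β n) (σ n)
    let Δ : (∐ fun n => E (j n)) ⟶ ∐ B := Limits.Sigma.desc fun n =>
      (biprod.inl : E (j n) ⟶ B n) ≫ Limits.Sigma.ι B n +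
        (biprod.inr : P (n + 1) ⟶ B (n + 1)) ≫ Limits.Sigma.ι B (n + 1)
    let S : ∀ n (N : ℕ), E (j n) ⟶ ∐ X := fun n N =>
      ∑ m ∈ Finset.range N, L n m ≫ t m ≫ Limits.Sigma.ι X (m + 1)
    let ψ : ∀ n, P n ⟶ ∐ X := fun n => match n with
      | 0 => 0
      | n + 1 => S n (n + 1)
    let Φ : ∀ n, B n ⟶ ∐ X := fun n => biprod.desc (-S n n) (ψ n)
    have hΔ : Δ ≫ Limits.Sigma.map ρ = Limits.Sigma.map β ≫ g := Limits.Sigma.hom_ext _ _ fun n => by
      simp only [Δ, g, Limits.Sigma.ι_desc_assoc, Preadditive.add_comp, Category.assoc,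
        Limits.Sigma.ι_map, Limits.Sigma.ι_map_assoc, ρ, biprod.inl_desc_assoc,
        biprod.inr_desc_assoc, σ, sh, Preadditive.comp_sub, Category.comp_id, Limits.Sigma.ι_desc,
        Preadditive.neg_comp]
      abel
    obtain ⟨γ', hγ'⟩ : ∃ γ', γ' = γ ≫ Δ := ⟨_, rfl⟩
    have hγρ : γ' ≫ Limits.Sigma.map ρ = 0 := by
      rw [hγ', Category.assoc, hΔ, ← Category.assoc, hα]
    choose K κn w hw using fun n => distinguished_cocone_triangle₁ (ρ n)
    obtain ⟨γ₁, hγ₁⟩ : ∃ γ₁ : E i ⟶ ∐ K, γ' = γ₁ ≫ Limits.Sigma.map κn :=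
      exists_factor_sigma (fun n => Triangle.mk (κn n) (ρ n) (w n)) hw γ' hγρ
    obtain ⟨l, δ, γ₂, rfl⟩ := hE K i γ₁
    have hδΦ : ∀ n, δ n ≫ κn n ≫ Φ n = 0 := fun n => by
      have hz : (δ n ≫ κn n) ≫ ρ n = 0 := by
        rw [Category.assoc, show κn n ≫ ρ n = 0 from comp_distTriang_mor_zero₁₂ _ (hw n), comp_zero]
      rw [← Category.assoc]
      generalize δ n ≫ κn n = e at hz ⊢
      have he : e = (e ≫ biprod.fst) ≫ biprod.inl + (e ≫ biprod.snd) ≫ biprod.inr := by
        rw [Category.assoc, Category.assoc, ← Preadditive.comp_add, biprod.total]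
        exact (Category.comp_id e).symm
      rw [he] at hz ⊢
      generalize e ≫ biprod.fst = a at hz ⊢
      generalize e ≫ biprod.snd = b at hz ⊢
      simp only [Preadditive.add_comp, Category.assoc, ρ, Φ, biprod.inl_desc, biprod.inr_desc] at hz ⊢
      cases n with
      | zero => simp [S, ψ]
      | succ n =>
        simp only [σ, ψ, Preadditive.comp_neg] at hz ⊢
        simp only [S, Preadditive.comp_sum, neg_add_eq_sub, ← Finset.sum_sub_distrib]
        refine Finset.sum_eq_zero fun m _ => ?_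
        rw [← Category.assoc, ← Category.assoc a, ← Preadditive.sub_comp, ← Category.assoc,
          hk m _ (b ≫ L n m - a ≫ L (n + 1) m), zero_comp]
        have h0 := congrArg (fun φ => pb H φ (x (n + 1))) hz
        simp only [pb_add, pb_neg, pb_comp, pb_zero_left, ht] at h0
        rw [pb_sub, pb_comp, pb_comp, hL, hL, ← neg_eq_zero, neg_sub, sub_eq_add_neg]
        exact h0
    have key : Δ ≫ Limits.Sigma.desc Φ = Limits.Sigma.map β ≫ sh := Limits.Sigma.hom_ext _ _ fun n => by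
      simp only [Δ, Limits.Sigma.ι_desc_assoc, Preadditive.add_comp, Category.assoc,
        Limits.Sigma.ι_desc, Φ, biprod.inl_desc, biprod.inr_desc, ψ, Limits.Sigma.ι_map_assoc, sh]
      simp only [S, Finset.sum_range_succ, neg_add_cancel_left]
      rw [← Category.assoc, ← Category.assoc (β n), ← sub_eq_zero, ← Preadditive.sub_comp,
        ← Preadditive.sub_comp, hk n _ _ (by rw [pb_sub, hL, sub_self]), zero_comp]
    have h0 : γ ≫ Limits.Sigma.map β ≫ sh = 0 := by
      rw [← key, ← Category.assoc, ← hγ', hγ₁, Category.assoc, Category.assoc]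
      refine (congrArg (γ₂ ≫ ·) ?_).trans comp_zero
      refine Limits.Sigma.hom_ext _ _ fun n => ?_
      simp [hδΦ n]
    simp only [g, Preadditive.comp_sub, Category.assoc, h0, sub_zero, Category.comp_id] at hα
    exact hα
  obtain ⟨Y, q, δ, hT⟩ := distinguished_cocone_triangle g
  obtain ⟨c, hc, -⟩ := existsUnique_glue H X x
  have hgc : pb H g c = 0 := by
    refine glue_ext H X fun n => ?_
    rw [show (0 : H.obj (Opposite.op (∐ X))) = 0 from rfl, ← pb_comp, Preadditive.comp_sub,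
      pb_sub, Category.comp_id, Limits.Sigma.ι_desc, pb_comp, hc, hc, ht, sub_self]
    exact (map_zero (H.map (Limits.Sigma.ι X n).op).hom).symm
  obtain ⟨y, hy⟩ := exists_of_pb_eq_zero H _ hT c hgc
  obtain ⟨q', hq'def⟩ : ∃ q' : ∀ n, X n ⟶ Y, ∀ n, Limits.Sigma.ι X n ≫ q = q' n :=
    ⟨_, fun _ => rfl⟩
  have hq' : ∀ n, pb H (q' n) y = x n := fun n => by
    rw [← hq'def, pb_comp, show pb H q y = c from hy, hc]
  have hqt : ∀ n, t n ≫ q' (n + 1) = q' n := fun n => by
    have h0 : g ≫ q = 0 := comp_distTriang_mor_zero₁₂ _ hT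
    have := congrArg (Limits.Sigma.ι X n ≫ ·) h0
    simp only [g, sh, Preadditive.sub_comp, Preadditive.comp_sub, Category.id_comp,
      Limits.Sigma.ι_desc_assoc, Category.assoc, comp_zero, sub_eq_zero] at this
    rw [← hq'def, ← hq'def]
    exact this.symm
  refine ⟨Y, q' 0, y, hq' 0, fun i => ⟨?_, fun a => ?_⟩⟩
  swap
  · obtain ⟨f, hf⟩ := hsur i a
    exact ⟨f ≫ q' 0, by simp only [pb_comp, hq', hf]⟩
  intro f₁ f₂ hf
  rw [← sub_eq_zero]
  have hf' : pb H (f₁ - f₂) y = 0 := by rw [pb_sub]; exact sub_eq_zero.2 hf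
  generalize f₁ - f₂ = f at hf'
  have hfδ : f ≫ δ = 0 := by
    obtain ⟨i', ⟨e⟩⟩ := hs i
    obtain ⟨u, hu⟩ := (shiftTranspose' (1 : ℤ) (E i) (∐ X)).surjective (f ≫ δ)
    have hu' : u ≫ g = 0 := by
      refine (shiftTranspose' (1 : ℤ) (E i) (∐ X)).injective ?_
      rw [shiftTranspose'_comp, hu, shiftTranspose'_zero, Category.assoc,
        show δ ≫ g⟦(1 : ℤ)⟧' = 0 from comp_distTriang_mor_zero₃₁ _ hT, comp_zero]
    have := hinj i' (e.hom ≫ u) (by rw [Category.assoc, hu', comp_zero])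
    rw [← hu, (cancel_epi e.hom).1 (this.trans comp_zero.symm), shiftTranspose'_zero]
  obtain ⟨g₀, rfl⟩ : ∃ g₀ : E i ⟶ ∐ X, f = g₀ ≫ q := Triangle.coyoneda_exact₃ _ hT f hfδ
  obtain ⟨j, β, γ, rfl⟩ := hE X i g₀
  choose L hL using fun n m => hsur' m (j n) (pb H (β n) (x n))
  have hindep : ∀ n m (a : E (j n) ⟶ X m), pb H a (x m) = pb H (β n) (x n) →
      a ≫ q' m = L n 0 ≫ q' 0 := fun n m => by
    induction m with
    | zero =>
      intro a ha
      rw [← hqt 0, ← sub_eq_zero, ← Category.assoc, ← Category.assoc, ← Preadditive.sub_comp,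
        ← Preadditive.sub_comp, hk 0 _ _ (by rw [pb_sub, ha, hL, sub_self]), zero_comp]
    | succ m ih =>
      intro a ha
      rw [← ih (L n m) (hL n m), ← hqt m, ← hqt (m + 1), ← sub_eq_zero, ← Category.assoc,
        ← Category.assoc (L n m), ← Category.assoc (L n m ≫ t m), ← Preadditive.sub_comp,
        ← Preadditive.sub_comp,
        hk (m + 1) _ _ (by rw [pb_sub, ha, pb_comp, ht, hL, sub_self]), zero_comp]
  let G : (∐ fun n => E (j n)) ⟶ X 0 := Limits.Sigma.desc fun n => L n 0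
  have hG : Limits.Sigma.map β ≫ q = G ≫ q' 0 := Limits.Sigma.hom_ext _ _ fun n => by
    simpa [G, hq'def] using hindep n n (β n) rfl
  have hGx : pb H G (x 0) = pb H (Limits.Sigma.map β ≫ q) y := by
    refine glue_ext H _ fun n => ?_
    rw [← pb_comp, ← pb_comp, Limits.Sigma.ι_map_assoc, Limits.Sigma.ι_desc, hL, pb_comp,
      hq'def, hq']
  rw [Category.assoc, hG, ← hqt 0, ← Category.assoc, ← Category.assoc,
    hk 0 _ (γ ≫ G) (by rw [pb_comp, hGx, ← pb_comp, ← Category.assoc, hf']), zero_comp]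

include hE hs in
lemma exists_good (Y : D) (y : H.obj (Opposite.op Y)) :
    ∃ (X : D) (u : Y ⟶ X) (x : H.obj (Opposite.op X)), pb H u x = y ∧ Good H E X x := by
  let T := Option (Σ i, (H.obj (Opposite.op (E i))))
  let f : T → D := fun o => o.elim Y fun p => E p.1
  let a : ∀ o, H.obj (Opposite.op (f o)) := fun o => match o with
    | none => y
    | some p => p.2
  obtain ⟨x₀, hx₀, -⟩ := existsUnique_glue H f a
  choose X' t' x' ht' hk' using fun p : Σ X : D, H.obj (Opposite.op X) => exists_step H E p.1 p.2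
  let tw : ℕ → Σ X : D, H.obj (Opposite.op X) := fun n =>
    Nat.rec ⟨∐ f, x₀⟩ (fun _ p => ⟨X' p, x' p⟩) n
  obtain ⟨X, q, x, hq, hx⟩ := good_of_tower H E hE hs (fun n => (tw n).1) (fun n => t' (tw n))
    (fun n => (tw n).2) (fun n => ht' (tw n)) (fun n => hk' (tw n))
    (fun i a => ⟨Limits.Sigma.ι f (some ⟨i, a⟩), hx₀ (some ⟨i, a⟩)⟩)
  exact ⟨X, Limits.Sigma.ι f none ≫ q, x, by rw [pb_comp, hq]; exact hx₀ none, hx⟩

omit [HasCoproducts.{v} D] [HasColimitsOfShape (Discrete ℕ) D] [PreservesLimitsOfShape (Discrete ℕ) H]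
  [∀ (κ' : Type v), PreservesLimitsOfShape (Discrete κ') H] in
include hs h1 in
lemma isIso_of_good {X X' : D} (u : X ⟶ X') {x : H.obj (Opposite.op X)}
    {x' : H.obj (Opposite.op X')} (hu : pb H u x' = x) (hx : Good H E X x) (hx' : Good H E X' x') :
    IsIso u := by
  obtain ⟨C, v, δ, hT⟩ := distinguished_cocone_triangle u
  have hb : ∀ i, Function.Bijective fun f : E i ⟶ X => f ≫ u := fun i =>
    ⟨fun f g h => (hx i).1 (by
      have := congrArg (fun φ => pb H φ x') (show f ≫ u = g ≫ u from h)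
      simpa only [pb_comp, hu] using this),
    fun φ => by
      obtain ⟨f, hf⟩ := (hx i).2 (pb H φ x')
      exact ⟨f, (hx' i).1 (by simpa only [pb_comp, hu] using hf)⟩⟩
  have hz : IsZero C := by
    by_contra h
    obtain ⟨i, e, he⟩ := h1 C h
    apply he
    have heδ : e ≫ δ = 0 := by
      obtain ⟨i', ⟨ε⟩⟩ := hs i
      obtain ⟨w, hw⟩ := (shiftTranspose' (1 : ℤ) (E i) X).surjective (e ≫ δ)
      have hw' : w ≫ u = 0 := by
        refine (shiftTranspose' (1 : ℤ) (E i) X').injective ?_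
        rw [shiftTranspose'_comp, hw, shiftTranspose'_zero, Category.assoc,
          show δ ≫ u⟦(1 : ℤ)⟧' = 0 from comp_distTriang_mor_zero₃₁ _ hT, comp_zero]
      have : ε.hom ≫ w = 0 := (hb i').1 (by simp [hw'])
      rw [← hw, (cancel_epi ε.hom).1 (this.trans comp_zero.symm), shiftTranspose'_zero]
    obtain ⟨e', rfl⟩ : ∃ e' : E i ⟶ X', e = e' ≫ v := Triangle.coyoneda_exact₃ _ hT e heδ
    obtain ⟨e'', rfl⟩ := (hb i).2 e'
    rw [Category.assoc, show u ≫ v = 0 from comp_distTriang_mor_zero₁₂ _ hT, comp_zero]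
  exact (Triangle.isZero₃_iff_isIso₁ _ hT).1 hz

include hE hs h1 in
theorem exists_universal : ∃ (X : D) (x : H.obj (Opposite.op X)),
    ∀ Y : D, Function.Bijective fun f : Y ⟶ X => pb H f x := by
  obtain ⟨X, -, x, -, hx⟩ := exists_good H E hE hs (0 : D) 0
  have hbij : ∀ Y : D, Function.Bijective fun f : Y ⟶ X => pb H f x := fun Y => by
    refine ⟨fun f g hfg => ?_, fun y => ?_⟩
    · rw [← sub_eq_zero]
      have h0 : pb H (f - g) x = 0 := by rw [pb_sub]; exact sub_eq_zero.2 hfg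
      generalize f - g = φ at h0 ⊢
      obtain ⟨Z, v, δ, hT⟩ := distinguished_cocone_triangle φ
      obtain ⟨z, hz⟩ := exists_of_pb_eq_zero H _ hT x h0
      obtain ⟨X', w, x', hw, hx'⟩ := exists_good H E hE hs Z z
      have := isIso_of_good H E hs h1 (v ≫ w) (x' := x') (by rw [pb_comp, hw]; exact hz) hx hx'
      rw [← cancel_mono (v ≫ w), zero_comp, ← Category.assoc,
        show φ ≫ v = 0 from comp_distTriang_mor_zero₁₂ _ hT, zero_comp]
    · let f : Bool → D := fun b => if b then Y else X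
      have : HasCoproduct f := inferInstance
      obtain ⟨Z, z, iY, iX, hY, hX⟩ : ∃ (Z : D) (z : H.obj (Opposite.op Z)) (iY : Y ⟶ Z)
          (iX : X ⟶ Z), pb H iY z = y ∧ pb H iX z = x := by
        refine ⟨Y ⊞ X, pb H biprod.fst y + pb H biprod.snd x, biprod.inl, biprod.inr, ?_, ?_⟩ <;>
          simp only [pb, map_add] <;>
          simp [← ConcreteCategory.comp_apply, ← H.map_comp, ← op_comp]
      obtain ⟨X', w, x', hw, hx'⟩ := exists_good H E hE hs Z z
      have := isIso_of_good H E hs h1 (iX ≫ w) (x' := x') (by rw [pb_comp, hw, hX]) hx hx'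
      refine ⟨(iY ≫ w) ≫ inv (iX ≫ w), ?_⟩
      have hi : pb H (inv (iX ≫ w)) x = x' := by
        have : x = pb H (iX ≫ w) x' := by rw [pb_comp, hw, hX]
        rw [this, ← pb_comp, IsIso.inv_hom_id, pb_id]
      simp only [pb_comp, hi, hw, hY]
  exact ⟨X, x, hbij⟩

end

end Groth.DualShriek.Brown

namespace Groth.DualShriek.Brown

open CategoryTheory CategoryTheory.Limits CategoryTheory.Pretriangulated ZeroObject

variable {D : Type u} [Category.{w} D] [Preadditive D] [HasZeroObject D] [HasShift D ℤ]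
  [∀ n : ℤ, (shiftFunctor D n).Additive] [Pretriangulated D]
  [HasColimitsOfShape (Discrete ℕ) D]

/-- the shift closure of a family -/
abbrev shiftClosure {ι : Type v} (E : ι → D) : ι × ULift.{v} ℤ → D := fun p => (E p.1)⟦p.2.down⟧

lemma shiftClosure_shift {ι : Type v} (E : ι → D) (p : ι × ULift.{v} ℤ) :
    ∃ p', Nonempty (shiftClosure E p' ≅ (shiftClosure E p)⟦(-1 : ℤ)⟧) :=
  ⟨(p.1, ⟨p.2.down + -1⟩), ⟨(shiftFunctorAdd' D p.2.down (-1) _ rfl).app (E p.1)⟩⟩

lemma shiftClosure_detects {ι : Type v} (E : ι → D)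
    (h1 : ∀ X : D, ¬ IsZero X → ∃ (i : ι) (f : E i ⟶ X), f ≠ 0) (X : D) (hX : ¬ IsZero X) :
    ∃ p, ∃ f : shiftClosure E p ⟶ X, f ≠ 0 := by
  obtain ⟨i, f, hf⟩ := h1 X hX
  refine ⟨(i, ⟨0⟩), (shiftFunctorZero D ℤ).hom.app (E i) ≫ f, fun h => hf ?_⟩
  exact (cancel_epi ((shiftFunctorZero D ℤ).hom.app (E i))).1 (h.trans comp_zero.symm)

lemma perfect_shiftClosure {ι : Type v} (E : ι → D) (h : Perfect E) : Perfect (shiftClosure E) := by
  rintro X ⟨i, ⟨k⟩⟩ α
  let T := shiftFunctor D k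
  let X' := fun n => T.objPreimage (X n)
  let e : ∀ n, T.obj (X' n) ≅ X n := fun n => T.objObjPreimageIso (X n)
  let c : T.obj (∐ X') ≅ ∐ X := PreservesCoproduct.iso T X' ≪≫ Limits.Sigma.mapIso e
  obtain ⟨α', hα'⟩ := T.map_surjective (α ≫ c.inv)
  obtain ⟨j, β, γ, rfl⟩ := h X' i α'
  refine ⟨fun n => (j n, ⟨k⟩), fun n => T.map (β n) ≫ (e n).hom,
    T.map γ ≫ (PreservesCoproduct.iso T fun n => E (j n)).hom, ?_⟩
  rw [← cancel_mono c.inv, ← hα', Functor.map_comp, Category.assoc, Category.assoc]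
  congr 1
  rw [← cancel_epi (PreservesCoproduct.iso T fun n => E (j n)).inv, Iso.inv_hom_id_assoc]
  refine Limits.Sigma.hom_ext _ _ fun n => ?_
  simp only [c, PreservesCoproduct.inv_hom, ι_comp_sigmaComparison_assoc,
    Limits.Sigma.ι_map_assoc, Iso.trans_inv]
  simp [← Functor.map_comp]

open CategoryTheory.Pretriangulated.Opposite in
lemma preservesLimitsOfShape_nat (H : Dᵒᵖ ⥤ AddCommGrpCat.{v})
    [∀ (κ' : Type v), PreservesLimitsOfShape (Discrete κ') H] :
    PreservesLimitsOfShape (Discrete ℕ) H :=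
  preservesLimitsOfShape_of_equiv (Discrete.equivalence (Equiv.ulift.{v, 0})) H

end Groth.DualShriek.Brown

namespace Groth.DualShriek.Brown

open CategoryTheory CategoryTheory.Limits CategoryTheory.Pretriangulated Opposite

set_option backward.isDefEq.respectTransparency false

variable {D : Type u} [Category.{w} D] [Preadditive D] [HasZeroObject D] [HasShift D ℤ]
  [∀ n : ℤ, (shiftFunctor D n).Additive] [Pretriangulated D] [HasCoproducts.{v} D] [LocallySmall.{v} D]

/-- A family out of which maps into countable direct sums are finite sums is perfect. -/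
lemma perfect_of_finite [HasColimitsOfShape (Discrete ℕ) D] {ι : Type v} (E : ι → D)
    (hE : ∀ (X : ℕ → D) (i : ι) (α : E i ⟶ ∐ X),
      ∃ (s : Finset ℕ) (f : ∀ n, E i ⟶ X n), α = ∑ n ∈ s, f n ≫ Limits.Sigma.ι X n) :
    Perfect E := fun X i α => by
  obtain ⟨s, f, rfl⟩ := hE X i α
  refine ⟨fun _ => i, f, ∑ n ∈ s, Limits.Sigma.ι (fun _ : ℕ => E i) n, ?_⟩
  rw [Preadditive.sum_comp]
  exact Finset.sum_congr rfl fun n _ => (Limits.Sigma.ι_map f n).symm

variable {D' : Type*} [Category* D'] [Preadditive D'] [HasZeroObject D'] [HasShift D' ℤ]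
  [∀ n : ℤ, (shiftFunctor D' n).Additive] [Pretriangulated D'] [LocallySmall.{v} D']
  (F : D ⥤ D') [F.Additive]

/-- The small version of `Hom (F -) Z`. -/
noncomputable def homTo (Z : D') : Dᵒᵖ ⥤ AddCommGrpCat.{v} where
  obj X := AddCommGrpCat.of (Shrink.{v} (F.obj X.unop ⟶ Z))
  map {X Y} g := AddCommGrpCat.ofHom (AddMonoidHom.mk'
    (fun x => equivShrink _ (F.map g.unop ≫ (equivShrink _).symm x))
    (fun x y => by simp [Preadditive.comp_add]))
  map_id X := by ext x; simp
  map_comp {X Y W} g h := by ext x; simp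

lemma homTo_map_apply (Z : D') {X Y : Dᵒᵖ} (g : X ⟶ Y) (x : F.obj X.unop ⟶ Z) :
    (homTo F Z).map g (equivShrink _ x) = equivShrink _ (F.map g.unop ≫ x) :=
  congrArg (fun y => equivShrink _ (F.map g.unop ≫ y)) (Equiv.symm_apply_apply _ _)

instance additive_homTo (Z : D') : (homTo F Z).Additive where
  map_add {X Y f g} := by
    ext x
    obtain ⟨x, rfl⟩ := (equivShrink _).surjective x
    show (homTo F Z).map (f + g) (equivShrink _ x) =
      (homTo F Z).map f (equivShrink _ x) + (homTo F Z).map g (equivShrink _ x)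
    rw [homTo_map_apply, homTo_map_apply, homTo_map_apply, unop_add, F.map_add, Preadditive.add_comp]
    exact equivShrink_add _ _

variable (htri : ∀ T ∈ distTriang D, ∃ c : F.obj T.obj₃ ⟶ (F.obj T.obj₁)⟦(1 : ℤ)⟧,
  Triangle.mk (F.map T.mor₁) (F.map T.mor₂) c ∈ distTriang D')

include htri in
open CategoryTheory.Pretriangulated.Opposite in
lemma isHomological_homTo (Z : D') : (homTo F Z).IsHomological where
  exact T hT := by
    rw [ShortComplex.ab_exact_iff]
    intro (x : Shrink.{v} (F.obj T.obj₂.unop ⟶ Z)) hx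
    obtain ⟨x, rfl⟩ := (equivShrink _).surjective x
    have hx' : F.map T.mor₂.unop ≫ x = 0 := by
      have h : (homTo F Z).map T.mor₂ (equivShrink _ x) = 0 := hx
      rw [homTo_map_apply] at h
      simpa using congrArg (equivShrink _).symm h
    rw [mem_distTriang_op_iff] at hT
    obtain ⟨c, hc⟩ := htri _ hT
    obtain ⟨y, hy⟩ := Triangle.yoneda_exact₂ _ hc x hx'
    refine ⟨equivShrink _ y, ?_⟩
    show (homTo F Z).map T.mor₁ (equivShrink _ y) = equivShrink _ x
    rw [homTo_map_apply]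
    exact congrArg _ hy.symm

variable [∀ (κ : Type v), PreservesColimitsOfShape (Discrete κ) F]

instance preservesLimitsOfShape_homTo (Z : D') (κ : Type v) :
    PreservesLimitsOfShape (Discrete κ) (homTo F Z) := by
  suffices ∀ X : κ → Dᵒᵖ, PreservesLimit (Discrete.functor X) (homTo F Z) from
    ⟨fun {K} => preservesLimit_of_iso_diagram _ (Discrete.natIsoFunctor (F := K)).symm⟩
  intro X
  let c : Cofan fun t => (X t).unop := Cofan.mk (∐ fun t => (X t).unop) (Limits.Sigma.ι _)
  have hc : IsColimit c := coproductIsCoproduct _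
  have hF := isColimitMapCoconeCofanMkEquiv F _ _ (isColimitOfPreserves F hc)
  refine preservesLimit_of_preserves_limit_cone (Cofan.IsColimit.op hc) ?_
  refine (isLimitMapConeFanMkEquiv _ _ _).symm ?_
  refine isLimitOfReflects (forget AddCommGrpCat.{v}) ?_
  refine (isLimitMapConeFanMkEquiv _ _ _).symm ?_
  refine Fan.IsLimit.mk _
    (fun s => ↾fun a => equivShrink _ (Cofan.IsColimit.desc hF fun t => (equivShrink _).symm (s.proj t a)))
    (fun s t => ?_) (fun s m hm => ?_)
  · ext a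
    show (homTo F Z).map (Limits.Sigma.ι (fun t => (X t).unop) t).op (equivShrink _ _) = s.proj t a
    rw [homTo_map_apply]
    refine (congrArg _ (Cofan.IsColimit.fac hF _ t)).trans ?_
    exact Equiv.apply_symm_apply _ _
  · ext a
    obtain ⟨y, hy⟩ := (equivShrink _).surjective (m a)
    show m a = equivShrink _ _
    rw [← hy]
    refine congrArg _ (Cofan.IsColimit.hom_ext hF _ _ fun t => ?_)
    rw [Cofan.IsColimit.fac hF, Equiv.eq_symm_apply, ← hm t]
    show equivShrink _ (F.map (Limits.Sigma.ι (fun t => (X t).unop) t) ≫ y) =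
      (homTo F Z).map (Limits.Sigma.ι (fun t => (X t).unop) t).op (m a)
    rw [← hy]
    exact (homTo_map_apply F Z (Limits.Sigma.ι (fun t => (X t).unop) t).op y).symm

include htri in
/-- Functors preserving direct sums out of a category with a perfect generating family are left adjoints. -/
theorem isLeftAdjoint [HasColimitsOfShape (Discrete ℕ) D] {ι : Type v} (E : ι → D) (hE : Perfect E)
    (hdet : ∀ X : D, ¬ IsZero X → ∃ p, ∃ f : shiftClosure E p ⟶ X, f ≠ 0) : F.IsLeftAdjoint := by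
  have h : ∀ Z : D', ∃ (X : D) (x : (homTo F Z).obj (op X)),
      ∀ Y : D, Function.Bijective fun f : Y ⟶ X => pb (homTo F Z) f x := fun Z =>
    haveI := isHomological_homTo F htri Z
    haveI := preservesLimitsOfShape_nat (homTo F Z)
    exists_universal (homTo F Z) (shiftClosure E) (perfect_shiftClosure E hE) (shiftClosure_shift E) hdet
  choose T x hx using h
  let e : ∀ X Z, (F.obj X ⟶ Z) ≃ (X ⟶ T Z) := fun X Z =>
    (equivShrink.{v} _).trans (Equiv.ofBijective _ (hx Z X)).symm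
  refine (Adjunction.adjunctionOfEquivRight (G_obj := T) e fun X' X Z f g => ?_).isLeftAdjoint
  apply (hx Z X').1
  show pb (homTo F Z) _ (x Z) = pb (homTo F Z) (f ≫ e X Z g) (x Z)
  rw [pb_comp]
  refine (Equiv.ofBijective_apply_symm_apply _ (hx Z X') _).trans ?_
  refine (homTo_map_apply F Z f.op g).symm.trans ?_
  exact congrArg _ (Equiv.ofBijective_apply_symm_apply _ (hx Z X) _).symm

end Groth.DualShriek.Brown
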