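import Groth.Agent.DualShriek.Adjoint
import Groth.Agent.DerivedCoh.PerfFP.Main
import Groth.Agent.KTheory.Perf

/-!
The twisted inverse image commutes with direct sums when `Rf_*` preserves perfect objects.
-/

universe u

open CategoryTheory CategoryTheory.Limits CategoryTheory.Pretriangulated AlgebraicGeometry
open scoped ZeroObject

attribute [local instance] HasDerivedCategory.standard

set_option backward.isDefEq.respectTransparency false

namespace Groth.DualShriek

variable {X Y : Scheme.{u}}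

/-- Maps from a perfect object into a direct sum in `D_QCoh` are finite sums. -/
theorem exists_finite_sum' [CompactSpace X] [QuasiSeparatedSpace X] (P : DCoh.DQCoh X) (hP : DCoh.IsPerfect P.obj)
    {κ : Type u} (M : κ → DCoh.DQCoh X) (φ : P ⟶ ∐ M) :
    ∃ (s : Finset κ) (g : ∀ i, P ⟶ M i), φ = ∑ i ∈ s, g i ≫ Limits.Sigma.ι M i := by
  classical
  let ι' := (DCoh.IsQCohD (X := X)).ι
  let c : ι'.obj (∐ M) ≅ ∐ fun i => (M i).obj := PreservesCoproduct.iso ι' M
  obtain ⟨s, g, hg⟩ := exists_finite_sum P.obj hP (fun i => (M i).obj) (fun i => (M i).property) (φ.hom ≫ c.hom)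
  refine ⟨s, fun i => ObjectProperty.homMk (g i), ι'.map_injective ?_⟩
  rw [← cancel_mono c.hom, ι'.map_sum, Preadditive.sum_comp]
  refine hg.trans (Finset.sum_congr rfl fun i _ => ?_)
  rw [ι'.map_comp, Category.assoc]
  congr 1
  rw [← cancel_mono c.inv, Category.assoc, Iso.hom_inv_id, Category.comp_id]
  simp only [c, PreservesCoproduct.inv_hom]
  exact ι_comp_sigmaComparison ι' M i

/-- If `Rf_*` preserves perfect objects, its right adjoint commutes with direct sums. -/
theorem preservesCoproducts_rightAdjoint [CompactSpace X] [QuasiSeparatedSpace X] [CompactSpace Y]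
    [QuasiSeparatedSpace Y] (f : X ⟶ Y) [QuasiCompact f] [QuasiSeparated f] [DCoh.HasRpush f]
    (h : DCoh.RpushPreservesQCoh f) (a : DCoh.DQCoh Y ⥤ DCoh.DQCoh X) (adj : DCoh.RpushQ f h ⊣ a)
    (hperf : ∀ E : DCoh.D X, DCoh.IsPerfect E → DCoh.IsPerfect ((DCoh.Rpush f).obj E)) (κ : Type u) :
    PreservesColimitsOfShape (Discrete κ) a := by
  classical
  let F := DCoh.RpushQ f h
  haveI : F.Additive := additive_of_preservesCoproducts.{u} F fun κ => preservesCoproducts_RpushQ f h κ
  haveI : a.Additive := adj.right_adjoint_additive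
  suffices ∀ K : κ → DCoh.DQCoh Y, PreservesColimit (Discrete.functor K) a from
    ⟨fun {K} => preservesColimit_of_iso_diagram a (Discrete.natIsoFunctor (F := K)).symm⟩
  intro K
  suffices IsIso (sigmaComparison a K) from PreservesCoproduct.of_iso_comparison a K
  let c := sigmaComparison a K
  have hb : ∀ P : DCoh.DQCoh X, DCoh.IsPerfect P.obj →
      (∀ φ : P ⟶ a.obj (∐ K), ∃ χ, χ ≫ c = φ) ∧ ∀ χ : P ⟶ ∐ fun i => a.obj (K i), χ ≫ c = 0 → χ = 0 := by
    intro P hP
    constructor
    · intro φ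
      obtain ⟨s, g, hg⟩ := exists_finite_sum' (F.obj P) (hperf _ hP) K ((adj.homEquiv _ _).symm φ)
      refine ⟨∑ i ∈ s, adj.homEquiv _ _ (g i) ≫ Limits.Sigma.ι (fun i => a.obj (K i)) i, ?_⟩
      rw [Preadditive.sum_comp, ← (adj.homEquiv _ _).apply_symm_apply φ, hg]
      show _ = adj.homAddEquiv _ _ (∑ i ∈ s, g i ≫ Limits.Sigma.ι K i)
      rw [map_sum]
      refine Finset.sum_congr rfl fun i _ => ?_
      rw [Category.assoc, ι_comp_sigmaComparison]
      exact (adj.homEquiv_naturality_right _ _).symm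
    · intro χ hχ
      obtain ⟨s, g, rfl⟩ := exists_finite_sum' P hP (fun i => a.obj (K i)) χ
      have h0 : (adj.homAddEquiv _ _).symm (∑ i ∈ s, g i ≫ a.map (Limits.Sigma.ι K i)) = 0 := by
        rw [Preadditive.sum_comp] at hχ
        rw [← map_zero (adj.homAddEquiv P (∐ K)).symm, ← hχ]
        exact congrArg _ (Finset.sum_congr rfl fun i _ => by rw [Category.assoc, ι_comp_sigmaComparison])
      rw [map_sum] at h0
      refine Finset.sum_eq_zero fun j hj => ?_
      let p : ∐ K ⟶ K j := Limits.Sigma.desc fun i => if hij : i = j then eqToHom (congrArg K hij) else 0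
      have h1 := congrArg (· ≫ p) h0
      simp only [Preadditive.sum_comp, zero_comp] at h1
      have e : ∀ i, (adj.homAddEquiv P (∐ K)).symm (g i ≫ a.map (Limits.Sigma.ι K i)) =
          (adj.homEquiv _ _).symm (g i) ≫ Limits.Sigma.ι K i := fun i =>
        adj.homEquiv_naturality_right_symm _ _
      rw [Finset.sum_eq_single_of_mem j hj fun i _ hij => by
        rw [e, Category.assoc, Limits.Sigma.ι_desc, dif_neg hij, comp_zero]] at h1
      rw [e, Category.assoc, Limits.Sigma.ι_desc, dif_pos rfl, eqToHom_refl, Category.comp_id] at h1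
      have h2 : g j = 0 := by
        rw [← (adj.homEquiv _ _).apply_symm_apply (g j), h1]
        exact map_zero (adj.homAddEquiv P (K j))
      rw [h2, zero_comp]
  obtain ⟨C, v, δ, hT⟩ := distinguished_cocone_triangle c
  refine (Triangle.isZero₃_iff_isIso₁ _ hT).1 ?_
  obtain ⟨P, hP, hgen⟩ := Groth.Agent.S1008.result X
  refine (IsZero.iff_id_eq_zero _).2 (ObjectProperty.hom_ext _ ?_)
  refine ((hgen C.obj C.property).2 fun n φ => ?_).eq_of_src _ _
  let Q : DCoh.DQCoh X := ⟨P⟦n⟧, Groth.Misc4.QCohDPerf.isQCohD_shift (Groth.Misc4.Thomason.isQCohD_of_isPerfect hP) n⟩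
  have hQ : DCoh.IsPerfect Q.obj := Groth.KTheory.Perf.isPerfect_shift hP n
  let e : Q ⟶ C := ObjectProperty.homMk φ
  suffices e = 0 from congrArg InducedCategory.Hom.hom this
  have heδ : e ≫ δ = 0 := by
    obtain ⟨w, hw⟩ := (Groth.DerivedCoh.shiftTranspose' (1 : ℤ) Q _).surjective (e ≫ δ)
    have hw' : w ≫ c = 0 := by
      refine (Groth.DerivedCoh.shiftTranspose' (1 : ℤ) Q _).injective ?_
      rw [Groth.DerivedCoh.shiftTranspose'_comp, hw, Groth.DerivedCoh.shiftTranspose'_zero,
        Category.assoc, show δ ≫ c⟦(1 : ℤ)⟧' = 0 from comp_distTriang_mor_zero₃₁ _ hT, comp_zero]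
    have hQ1 : DCoh.IsPerfect (Q⟦(-1 : ℤ)⟧).obj :=
      Groth.KTheory.Perf.isPerfect_of_iso (((DCoh.IsQCohD (X := X)).ι.commShiftIso (-1 : ℤ)).app Q).symm
        (Groth.KTheory.Perf.isPerfect_shift hQ (-1))
    rw [← hw, (hb _ hQ1).2 w hw', Groth.DerivedCoh.shiftTranspose'_zero]
  obtain ⟨e', he'⟩ := Triangle.coyoneda_exact₃ _ hT e heδ
  obtain ⟨e'', rfl⟩ := (hb Q hQ).1 e'
  rw [he', Category.assoc]
  exact (congrArg (e'' ≫ ·) (comp_distTriang_mor_zero₁₂ _ hT)).trans comp_zero

end Groth.DualShriek
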