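import Groth.Prelude.Def_DDual2
import Groth.Agent.DualShriek.Brown
import Groth.Agent.CohDescent.SmallDerived
import Groth.Agent.Misc4.PerfectCompactQCoh
import Groth.Agent.Misc4.RpushCoprod
import Groth.Agent.Misc4.KoszulSummand
import Groth.Agent.Misc4.QCohDPerf
import Groth.Agent.Misc4.QCohDSum
import Groth.Agent.S1008
import Mathlib.CategoryTheory.Triangulated.Subcategory
import Mathlib.CategoryTheory.Limits.FullSubcategory

/-!
`D_QCoh` of a quasi-compact quasi-separated scheme: triangulated, with direct sums, perfect objects are compact,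
and adjoint functor theorem.
-/

universe u v w

open CategoryTheory CategoryTheory.Limits CategoryTheory.Pretriangulated AlgebraicGeometry DerivedCategory
open scoped ZeroObject

attribute [local instance] HasDerivedCategory.standard

set_option backward.isDefEq.respectTransparency false

namespace Groth.DualShriek

variable {X : Scheme.{u}}

instance isClosedUnderIsomorphisms_isQCohD : (DCoh.IsQCohD (X := X)).IsClosedUnderIsomorphisms :=
  ⟨fun e h => Groth.Misc4.QCohDPerf.isQCohD_of_iso e h⟩

instance isTriangulated_isQCohD : (DCoh.IsQCohD (X := X)).IsTriangulated where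
  exists_zero := ⟨0, isZero_zero _, fun i => Groth.Misc4.QCohDPerf.isQCoh_isZero
    ((homologyFunctor X.Modules i).map_isZero (isZero_zero _))⟩
  isStableUnderShiftBy n := ⟨fun K h => Groth.Misc4.QCohDPerf.isQCohD_shift h n⟩
  toIsTriangulatedClosed₂ := ObjectProperty.IsTriangulatedClosed₂.mk' fun T hT h₁ h₃ =>
    Groth.Misc4.QCohDPerf.isQCohD_obj₂ T hT h₁ h₃

instance hasCoproducts_D : HasCoproducts.{u} (DCoh.D X) := Groth.DerivedCoh.KInjRes.hasCoproducts

instance locallySmall_D : LocallySmall.{u} (DCoh.D X) := ⟨Groth.Agent.CohDescent.small_hom X.Modules⟩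

instance isClosedUnderColimits_isQCohD (ι : Type u) :
    (DCoh.IsQCohD (X := X)).IsClosedUnderColimitsOfShape (Discrete ι) where
  colimitsOfShape_le := by
    rintro K ⟨p⟩
    let M : ι → DCoh.D X := fun i => p.diag.obj ⟨i⟩
    refine Groth.Misc4.QCohDPerf.isQCohD_of_iso ?_
      (Groth.Misc4.QCohDSum.isQCohD_sigma X M fun i => p.prop_diag_obj ⟨i⟩)
    exact IsColimit.coconePointsIsoOfNatIso (coproductIsCoproduct M) p.isColimit
      (Discrete.natIso fun i => Iso.refl _)

instance hasCoproducts_DQCoh : HasCoproducts.{u} (DCoh.DQCoh X) := fun ι =>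
  hasColimitsOfShape_of_closedUnderColimits (Discrete ι) DCoh.IsQCohD

instance hasColimitsOfShape_nat_DQCoh : HasColimitsOfShape (Discrete ℕ) (DCoh.DQCoh X) :=
  hasColimitsOfShape_of_equivalence (Discrete.equivalence (Equiv.ulift.{u, 0}))

instance locallySmall_DQCoh : LocallySmall.{u} (DCoh.DQCoh X) :=
  ⟨fun K L => small_map (InducedCategory.homEquiv (X := K) (Y := L))⟩

instance preservesCoproducts_ι (ι : Type u) :
    PreservesColimitsOfShape (Discrete ι) (DCoh.IsQCohD (X := X)).ι :=
  haveI : CreatesColimitsOfShape (Discrete ι) (DCoh.IsQCohD (X := X)).ι :=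
    createsColimitsOfShapeFullSubcategoryInclusion _ _
  inferInstance

variable [CompactSpace X] [QuasiSeparatedSpace X]

/-- Maps from a perfect object into a direct sum in `D_QCoh` are finite sums. -/
theorem exists_finite_sum (K : DCoh.D X) (hK : DCoh.IsPerfect K) {I : Type u} (M : I → DCoh.D X)
    (hM : ∀ i, DCoh.IsQCohD (M i)) (φ : K ⟶ ∐ M) :
    ∃ (s : Finset I) (g : ∀ i, K ⟶ M i), φ = ∑ i ∈ s, g i ≫ Limits.Sigma.ι M i := by
  classical
  obtain ⟨x, hx⟩ := (Groth.Misc4.PerfectCompactQCoh.bijective K hK M hM).2 φ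
  refine ⟨DFinsupp.support x, fun i => x i, ?_⟩
  rw [← hx]
  conv_lhs => rw [← DirectSum.sum_support_of x]
  rw [map_sum]
  exact Finset.sum_congr rfl fun i _ => Groth.Misc4.PerfectCompactQCoh.homSum_of K M i (x i)

/-- The perfect generator is a perfect detecting family of `D_QCoh`. -/
theorem exists_generator : ∃ E : PUnit.{u + 1} → DCoh.DQCoh X, Brown.Perfect E ∧
    ∀ K : DCoh.DQCoh X, ¬ IsZero K → ∃ p, ∃ f : Brown.shiftClosure E p ⟶ K, f ≠ 0 := by
  obtain ⟨P, hP, hgen⟩ := Groth.Agent.S1008.result X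
  have hPq : DCoh.IsQCohD P := Groth.Misc4.Thomason.isQCohD_of_isPerfect hP
  let E : PUnit.{u + 1} → DCoh.DQCoh X := fun _ => ⟨P, hPq⟩
  refine ⟨E, Brown.perfect_of_finite E fun M i α => ?_, fun K hK => ?_⟩
  · let ι' := (DCoh.IsQCohD (X := X)).ι
    haveI : PreservesColimitsOfShape (Discrete ℕ) ι' :=
      preservesColimitsOfShape_of_equiv (Discrete.equivalence (Equiv.ulift.{u, 0})) ι'
    let e := Equiv.ulift.{u, 0} (α := ℕ)
    let c : ι'.obj (∐ M) ≅ ∐ fun n : ULift.{u} ℕ => (M n.down).obj :=
      PreservesCoproduct.iso ι' M ≪≫ (Limits.Sigma.reindex e fun n => (M n).obj).symm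
    obtain ⟨s, g, hg⟩ := exists_finite_sum P hP (fun n : ULift.{u} ℕ => (M n.down).obj)
      (fun n => (M n.down).property) (α.hom ≫ c.hom)
    refine ⟨s.image ULift.down, fun n => ObjectProperty.homMk (g ⟨n⟩), ι'.map_injective ?_⟩
    rw [← cancel_mono c.hom, ι'.map_sum, Finset.sum_image fun a _ b _ h => ULift.down_injective h,
      Preadditive.sum_comp]
    refine hg.trans (Finset.sum_congr rfl fun n _ => ?_)
    rw [ι'.map_comp, Category.assoc]
    congr 1
    rw [← cancel_mono c.inv, Category.assoc, Iso.hom_inv_id, Category.comp_id]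
    simp only [c, Iso.trans_inv, Iso.symm_inv, PreservesCoproduct.inv_hom]
    rw [← Category.assoc]
    exact (congrArg (· ≫ sigmaComparison ι' M) (Limits.Sigma.ι_reindex_hom e (fun n => (M n).obj) n)).trans
      (ι_comp_sigmaComparison ι' M n.down)
  · by_contra hc
    push Not at hc
    refine hK ((IsZero.iff_id_eq_zero _).2 (ObjectProperty.hom_ext _ ?_))
    refine ((hgen K.obj K.property).2 fun n φ => ?_).eq_of_src _ _
    let c := ((DCoh.IsQCohD (X := X)).ι.commShiftIso n).app (E PUnit.unit)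
    have h := congrArg InducedCategory.Hom.hom (hc (PUnit.unit, ⟨n⟩) (ObjectProperty.homMk (c.hom ≫ φ)))
    exact (cancel_epi c.hom).1 (h.trans comp_zero.symm)

/-- Functors on `D_QCoh` preserving triangles and direct sums are left adjoints. -/
theorem isLeftAdjoint {D' : Type v} [Category.{w} D'] [Preadditive D'] [HasZeroObject D'] [HasShift D' ℤ]
    [∀ n : ℤ, (shiftFunctor D' n).Additive] [Pretriangulated D'] [LocallySmall.{u} D']
    (F : DCoh.DQCoh X ⥤ D') [F.Additive]
    (htri : ∀ T ∈ distTriang (DCoh.DQCoh X), ∃ c : F.obj T.obj₃ ⟶ (F.obj T.obj₁)⟦(1 : ℤ)⟧,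
      Triangle.mk (F.map T.mor₁) (F.map T.mor₂) c ∈ distTriang D')
    [∀ (κ : Type u), PreservesColimitsOfShape (Discrete κ) F] : F.IsLeftAdjoint := by
  obtain ⟨E, hE, hdet⟩ := exists_generator (X := X)
  exact Brown.isLeftAdjoint F htri E hE hdet

end Groth.DualShriek
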