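import Groth.Agent.Misc4.ProjQCoh
import Groth.Agent.Misc4.QCohDTensor
import Groth.Agent.DerivedCoh.Duality.Braid
import Groth.Agent.DerivedCoh.KFlat.Lpull
import Groth.Agent.DerivedCoh.KFlat.RpushComp

/-!
The projection formula, natural in the object of the target.
-/

universe u

open CategoryTheory CategoryTheory.Limits AlgebraicGeometry HomologicalComplex

attribute [local instance] HasDerivedCategory.standard

set_option backward.isDefEq.respectTransparency false
set_option maxHeartbeats 1000000
set_option synthInstance.maxHeartbeats 400000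

namespace Groth.DualShriek

open Groth.DerivedCoh.KFlat (T IsKFlat tot totL totR pushCx pullCx kres kresAug flatResolution flatResolutionAug L₀ L₀Q)
open Groth.DerivedCoh.Duality (brIso br_natural)
open Groth.Misc4.ProjPerfect (theta theta_natural)

local notation "up" => ComplexShape.up ℤ

variable {X Y : Scheme.{u}} (f : X ⟶ Y)

/-- a chain map is an isomorphism in the derived category if it is a quasi-isomorphism -/
lemma isIso_Q {Z : Scheme.{u}} {A B : CochainComplex Z.Modules ℤ} (g : A ⟶ B) (h : QuasiIso g) :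
    IsIso (DerivedCategory.Q.map g) :=
  (DerivedCategory.isIso_Q_map_iff_quasiIso _ g).2 h

/-- `Lf^*` on complexes -/
noncomputable def lpullResIso [DCoh.HasLpull f] :
    DerivedCategory.Q ⋙ DCoh.Lpull f ≅ flatResolution Y ⋙ pullCx f ⋙ DerivedCategory.Q :=
  NatIso.ofComponents (fun M =>
    haveI := isIso_Q ((flatResolutionAug Y).app M) (Groth.DerivedCoh.KFlat.flatResolution_quasiIso M)
    (DCoh.Lpull f).mapIso (asIso (DerivedCategory.Q.map ((flatResolutionAug Y).app M))).symm ≪≫
      Groth.DerivedCoh.KFlat.lpullQIso f _ (Groth.DerivedCoh.KFlat.flatResolution_isKFlat M))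
    fun {M N} g => by
      haveI := isIso_Q ((flatResolutionAug Y).app M) (Groth.DerivedCoh.KFlat.flatResolution_quasiIso M)
      haveI := isIso_Q ((flatResolutionAug Y).app N) (Groth.DerivedCoh.KFlat.flatResolution_quasiIso N)
      let g' := (flatResolution Y).map g
      have h1 := (Groth.DerivedCoh.KFlat.pullCounit f).naturality ((HomotopyCategory.quotient Y.Modules up).map g')
      have h2 := (L₀Q Y).inv.naturality g'
      have h3 := (L₀Q X).hom.naturality ((pullCx f).map g')
      have h0 : DerivedCategory.Q.map g ≫ inv (DerivedCategory.Q.map ((flatResolutionAug Y).app N)) =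
          inv (DerivedCategory.Q.map ((flatResolutionAug Y).app M)) ≫ DerivedCategory.Q.map g' := by
        rw [IsIso.eq_inv_comp, ← Category.assoc, IsIso.comp_inv_eq, ← Functor.map_comp, ← Functor.map_comp]
        exact congrArg _ ((flatResolutionAug Y).naturality g).symm
      simp only [Functor.comp_map, Iso.trans_hom, Functor.mapIso_hom, Iso.symm_hom, asIso_inv,
        Groth.DerivedCoh.KFlat.lpullQIso, Iso.app_hom, Iso.app_inv, asIso_hom, Category.assoc]
      rw [← Functor.map_comp_assoc, h0, Functor.map_comp, Category.assoc]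
      congr 1
      rw [← Functor.map_comp_assoc, h2, Functor.map_comp, Category.assoc]
      congr 1
      exact (reassoc_of% h1) _ |>.trans (congrArg (_ ≫ ·) h3)

/-- `Rf_*` on complexes -/
noncomputable def rpushResIso [DCoh.HasRpush f] :
    DerivedCategory.Q ⋙ DCoh.Rpush f ≅ kres X ⋙ pushCx f ⋙ DerivedCategory.Q :=
  Functor.isoWhiskerRight (L₀Q X).symm (DCoh.Rpush f) ≪≫ Groth.DerivedCoh.KFlat.RpushResIso f ≪≫
    Functor.isoWhiskerLeft (kres X ⋙ pushCx f) (L₀Q Y)

section Main

variable (I : CochainComplex X.Modules ℤ)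

/-- the flat resolution of `f_*I` -/
noncomputable abbrev dirF : CochainComplex Y.Modules ℤ := (flatResolution Y).obj ((pushCx f).obj I)

/-- `P ⊗ f_*I ⟶ f_*(f^*P ⊗ I)` on complexes -/
noncomputable def pfApp (M : CochainComplex Y.Modules ℤ) :
    tot (T Y) M (dirF f I) ⟶ (pushCx f).obj ((kres X).obj (tot (T X) I ((pullCx f).obj M))) :=
  (totR (T Y) M).map ((flatResolutionAug Y).app _) ≫ (brIso M ((pushCx f).obj I)).hom ≫ theta f I M

lemma pfApp_natural {M N : CochainComplex Y.Modules ℤ} (g : M ⟶ N) :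
    (totL (T Y) (dirF f I)).map g ≫ pfApp f I N =
      pfApp f I M ≫ (pushCx f).map ((kres X).map ((totR (T X) I).map ((pullCx f).map g))) := by
  have h1 : (totL (T Y) (dirF f I)).map g ≫ (totR (T Y) N).map ((flatResolutionAug Y).app _) =
      (totR (T Y) M).map ((flatResolutionAug Y).app _) ≫ (totL (T Y) ((pushCx f).obj I)).map g :=
    (((T Y).map₂CochainComplex.map g).naturality ((flatResolutionAug Y).app _)).symm
  have h2 : (totL (T Y) ((pushCx f).obj I)).map g ≫ (brIso N ((pushCx f).obj I)).hom =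
      (brIso M ((pushCx f).obj I)).hom ≫ (totR (T Y) ((pushCx f).obj I)).map g :=
    br_natural M _ g (𝟙 _)
  simp only [pfApp, Category.assoc]
  rw [← theta_natural, reassoc_of% h1, reassoc_of% h2]
  rfl

lemma quasiIso_pfApp [I.IsKInjective] (hI : DCoh.IsQCohD (DCoh.toD X I)) (M : CochainComplex Y.Modules ℤ)
    (hM : IsKFlat (T Y) M) (hMq : DCoh.IsQCohD (DCoh.toD Y M)) [QuasiCompact f] [QuasiSeparated f] :
    QuasiIso (pfApp f I M) := by
  haveI := Groth.DerivedCoh.KFlat.flatResolution_quasiIso ((pushCx f).obj I)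
  have h1 : QuasiIso ((totR (T Y) M).map ((flatResolutionAug Y).app ((pushCx f).obj I))) :=
    Groth.DerivedCoh.KFlat.quasiIso_totR (T Y) (Groth.DerivedCoh.Duality.isKFlat_flip hM) _
  have h2 : QuasiIso (theta f I M) := Groth.Misc4.ProjQCoh.quasiIso_theta f I inferInstance hI M hM hMq
  exact Groth.Misc4.ProjPerfect.qc h1 (Groth.Misc4.ProjPerfect.qc (Groth.Misc4.ProjPerfect.qiso _) h2)

variable [DCoh.HasLTensorCx (dirF f I)] [DCoh.HasLTensorCx ((flatResolution X).obj I)]

/-- `- ⊗ f_*I` on complexes -/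
noncomputable def leftResIso : DerivedCategory.Q ⋙ DCoh.LTensorCx (dirF f I) ≅
    flatResolution Y ⋙ totL (T Y) (dirF f I) ⋙ DerivedCategory.Q :=
  haveI : ∀ M, IsIso ((Functor.whiskerRight (flatResolutionAug Y) DerivedCategory.Q).app M) := fun M =>
    isIso_Q _ (Groth.DerivedCoh.KFlat.flatResolution_quasiIso M)
  haveI := NatIso.isIso_of_isIso_app (Functor.whiskerRight (flatResolutionAug Y) DerivedCategory.Q)
  Functor.isoWhiskerRight (asIso (Functor.whiskerRight (flatResolutionAug Y) DerivedCategory.Q)).symm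
      (DCoh.LTensorCx (dirF f I)) ≪≫
    Functor.isoWhiskerLeft (flatResolution Y)
      (Groth.DerivedCoh.KFlat.ltcxNatIso (dirF f I) (Groth.DerivedCoh.KFlat.flatResolution_isKFlat _))

omit [DCoh.HasLTensorCx (dirF f I)] [DCoh.HasLTensorCx ((flatResolution X).obj I)] in
lemma isIso_swap (M : CochainComplex Y.Modules ℤ) :
    IsIso (DerivedCategory.Q.map ((totR (T X) ((pullCx f).obj ((flatResolution Y).obj M))).map
      ((flatResolutionAug X).app I))) :=
  isIso_Q _ (haveI := Groth.DerivedCoh.KFlat.flatResolution_quasiIso I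
    Groth.DerivedCoh.KFlat.quasiIso_totR (T X) (Groth.DerivedCoh.Duality.isKFlat_flip
      (Groth.DerivedCoh.KFlat.isKFlat_pullCx f _ (Groth.DerivedCoh.KFlat.flatResolution_isKFlat M))) _)

omit [DCoh.HasLTensorCx (dirF f I)] [DCoh.HasLTensorCx ((flatResolution X).obj I)] in
lemma swap_natural {P P' : CochainComplex X.Modules ℤ} (g' : P ⟶ P') :
    (totL (T X) ((flatResolution X).obj I)).map g' ≫
        (totR (T X) P').map ((flatResolutionAug X).app I) ≫ (brIso P' I).hom =
      (totR (T X) P).map ((flatResolutionAug X).app I) ≫ (brIso P I).hom ≫ (totR (T X) I).map g' := by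
  have h1 : (totL (T X) ((flatResolution X).obj I)).map g' ≫
      (totR (T X) P').map ((flatResolutionAug X).app I) =
      (totR (T X) P).map ((flatResolutionAug X).app I) ≫ (totL (T X) I).map g' :=
    (((T X).map₂CochainComplex.map g').naturality ((flatResolutionAug X).app I)).symm
  have h2 : (totL (T X) I).map g' ≫ (brIso P' I).hom = (brIso P I).hom ≫ (totR (T X) I).map g' :=
    br_natural P I g' (𝟙 I)
  rw [reassoc_of% h1]
  exact congrArg (_ ≫ ·) h2

omit [DCoh.HasLTensorCx (dirF f I)] [DCoh.HasLTensorCx ((flatResolution X).obj I)] in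
/-- swapping the factors -/
noncomputable def innerSwap : flatResolution Y ⋙ pullCx f ⋙ totL (T X) ((flatResolution X).obj I) ⋙ DerivedCategory.Q ≅
    (flatResolution Y ⋙ pullCx f ⋙ totR (T X) I) ⋙ DerivedCategory.Q :=
  NatIso.ofComponents (fun M =>
    haveI := isIso_swap f I M
    asIso (DerivedCategory.Q.map ((totR (T X) ((pullCx f).obj ((flatResolution Y).obj M))).map
      ((flatResolutionAug X).app I))) ≪≫
    DerivedCategory.Q.mapIso (brIso ((pullCx f).obj ((flatResolution Y).obj M)) I))
    fun {M N} g => by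
      dsimp only [Functor.comp_map, Iso.trans_hom, asIso_hom, Functor.mapIso_hom]
      rw [← Functor.map_comp, ← Functor.map_comp, ← Functor.map_comp, ← Functor.map_comp]
      exact congrArg _ ((swap_natural I ((pullCx f).map ((flatResolution Y).map g))).trans (Category.assoc _ _ _).symm)

variable [DCoh.HasLpull f]

/-- the inner part `M ↦ Lf^*M ⊗ I` on complexes -/
noncomputable def innerResIso : DerivedCategory.Q ⋙ DCoh.Lpull f ⋙ DCoh.LTensorCx ((flatResolution X).obj I) ≅
    (flatResolution Y ⋙ pullCx f ⋙ totR (T X) I) ⋙ DerivedCategory.Q :=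
  Functor.isoWhiskerRight (lpullResIso f) (DCoh.LTensorCx ((flatResolution X).obj I)) ≪≫
    Functor.isoWhiskerLeft (flatResolution Y ⋙ pullCx f)
      (Groth.DerivedCoh.KFlat.ltcxNatIso _ (Groth.DerivedCoh.KFlat.flatResolution_isKFlat I)) ≪≫
    innerSwap f I

variable [DCoh.HasRpush f]

/-- the right hand side of the projection formula -/
noncomputable abbrev pfTarget : DCoh.D Y ⥤ DCoh.D Y :=
  DCoh.Lpull f ⋙ DCoh.LTensorCx ((flatResolution X).obj I) ⋙ DCoh.Rpush f

/-- `(Lf^*M ⊗ I)` pushed forward, on complexes -/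
noncomputable def rightResIso : DerivedCategory.Q ⋙ pfTarget f I ≅
    flatResolution Y ⋙ pullCx f ⋙ totR (T X) I ⋙ kres X ⋙ pushCx f ⋙ DerivedCategory.Q :=
  Functor.isoWhiskerRight (innerResIso f I) (DCoh.Rpush f) ≪≫
    Functor.isoWhiskerLeft (flatResolution Y ⋙ pullCx f ⋙ totR (T X) I) (rpushResIso f)

/-- the projection formula map on complexes -/
noncomputable def pfRes : flatResolution Y ⋙ totL (T Y) (dirF f I) ⋙ DerivedCategory.Q ⟶
    flatResolution Y ⋙ pullCx f ⋙ totR (T X) I ⋙ kres X ⋙ pushCx f ⋙ DerivedCategory.Q where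
  app M := DerivedCategory.Q.map (pfApp f I ((flatResolution Y).obj M))
  naturality M N g := by
    show DerivedCategory.Q.map ((totL (T Y) (dirF f I)).map ((flatResolution Y).map g)) ≫
        DerivedCategory.Q.map _ = DerivedCategory.Q.map _ ≫ DerivedCategory.Q.map _
    rw [← Functor.map_comp, pfApp_natural, Functor.map_comp]

/-- the projection formula map `M ⊗ Rf_*I ⟶ Rf_*(Lf^*M ⊗ I)` -/
noncomputable def pfHom : DCoh.LTensorCx (dirF f I) ⟶ pfTarget f I :=
  Localization.liftNatTrans DerivedCategory.Q (HomologicalComplex.quasiIso Y.Modules up)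
    (DerivedCategory.Q ⋙ DCoh.LTensorCx (dirF f I)) (DerivedCategory.Q ⋙ pfTarget f I) _ _
    ((leftResIso f I).hom ≫ pfRes f I ≫ (rightResIso f I).inv)

/-- the projection formula map is invertible on objects with quasi-coherent cohomology -/
theorem isIso_pfHom [QuasiCompact f] [QuasiSeparated f] [I.IsKInjective] (hI : DCoh.IsQCohD (DCoh.toD X I))
    (M : DCoh.D Y) (hM : DCoh.IsQCohD M) : IsIso ((pfHom f I).app M) := by
  obtain ⟨C, ⟨e⟩⟩ := Groth.KTheory.Perf.exists_rep M
  rw [← NatTrans.isIso_app_iff_of_iso _ e]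
  haveI := isIso_Q ((flatResolutionAug Y).app C) (Groth.DerivedCoh.KFlat.flatResolution_quasiIso C)
  haveI : IsIso ((pfRes f I).app C) := isIso_Q _ (quasiIso_pfApp f I hI _
    (Groth.DerivedCoh.KFlat.flatResolution_isKFlat C)
    (Groth.Misc4.QCohDPerf.isQCohD_of_iso
      (asIso (DerivedCategory.Q.map ((flatResolutionAug Y).app C)) ≪≫ e).symm hM))
  rw [pfHom, show DCoh.toD Y C = DerivedCategory.Q.obj C from rfl, Localization.liftNatTrans_app]
  simp only [NatTrans.comp_app]
  infer_instance

end Main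

end Groth.DualShriek
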