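import Groth.Agent.RelPC.PnPush.TwistDetect
import Groth.Agent.RelPC.PnPush.KPerfPn
import Groth.Agent.DualShriek.DQ
import Groth.Agent.PCohPunctual.Perfect
import Groth.Agent.Misc4.QCohDColim

/-!
The right adjoint of `Rf_*` for projective space over an affine base.
-/

universe u

open CategoryTheory CategoryTheory.Limits CategoryTheory.Pretriangulated AlgebraicGeometry
open Groth.RelPC.PnPush

attribute [local instance] HasDerivedCategory.standard

set_option backward.isDefEq.respectTransparency false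
set_option maxHeartbeats 1000000
set_option synthInstance.maxHeartbeats 400000

namespace Groth.DualShriek.Pn

local notation "up" => ComplexShape.up ℤ

variable (r : ℕ) (S : Scheme.{u}) [DCoh.HasRpush (KRR.pr r S)]

/-- modules without any cohomology along the projection -/
def Van : ObjectProperty (KRR.PY r S).Modules :=
  fun M => IsZero ((DCoh.Rpush (KRR.pr r S)).obj (DCoh.inD _ M))

lemma van_iso {M N : (KRR.PY r S).Modules} (e : M ≅ N) (h : Van r S M) : Van r S N :=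
  IsZero.of_iso h ((DCoh.Rpush (KRR.pr r S)).mapIso ((DerivedCategory.singleFunctor _ 0).mapIso e.symm))

lemma van_zero {M : (KRR.PY r S).Modules} (h : IsZero M) : Van r S M :=
  Groth.DerivedCoh.PerfPush.isZero_Rpush _ ((DerivedCategory.singleFunctor _ 0).map_isZero h)

lemma van_sigma [HasFiniteBiproducts (KRR.PY r S).Modules] {A : (KRR.PY r S).Modules} (h : Van r S A)
    (k : ℕ) : Van r S (∐ fun _ : Fin k => A) := by
  induction k with
  | zero => exact van_iso r S (nonempty_sigma_zero A).some.symm (van_zero r S (isZero_zero _))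
  | succ k ih =>
    refine van_iso r S (nonempty_sigma_add A k 1).some ?_
    obtain ⟨c, hc⟩ := Groth.DerivedCoh.PerfPush.exists_distinguished (KRR.pr r S) _
      (ShortComplex.Splitting.ofHasBinaryBiproduct (∐ fun _ : Fin k => A) (∐ fun _ : Fin 1 => A)).shortExact.singleTriangle_distinguished
    exact Triangle.isZero₂_of_isZero₁₃ _ hc ih (van_iso r S (nonempty_sigma_one A).some.symm h)

lemma van_twist (d : ℤ) (h₁ : -(r : ℤ) ≤ d) (h₂ : d < 0) : Van r S (Twist.twistOver r S d) := by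
  obtain ⟨b⟩ := nonempty_Rpush_twist r S d h₁
  obtain ⟨i, hi, hir, rfl⟩ : ∃ i : ℕ, 1 ≤ i ∧ i ≤ r ∧ d = -(i : ℤ) := ⟨(-d).toNat, by omega, by omega, by omega⟩
  refine IsZero.of_iso ((DerivedCategory.singleFunctor _ 0).map_isZero ?_) b
  exact (Groth.KTheory.RegKoszul.isZero_push_twist r S hi hir).of_iso
    ((Scheme.Modules.pushforward (KRR.pr r S)).mapIso ((nonempty_G_structure (n := r) (T := S) _).some.symm ≪≫
      (Groth.KTheory.RegKoszul.nonempty_G_iso_twF _ _).some))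

/-- `Rf_*O = O` -/
theorem nonempty_Rpush_structure :
    Nonempty ((DCoh.Rpush (KRR.pr r S)).obj (DCoh.inD _ (Twist.twistOver r S 0)) ≅
      DCoh.inD S (Coh.structureModule S)) := by
  obtain ⟨b⟩ := nonempty_Rpush_twist r S 0 (by omega)
  obtain ⟨z⟩ := Groth.KTheory.RegSheaf.nonempty_structure_of_idem (Groth.KTheory.RegSheaf.isInvertible_twistOver r S 0)
    (by simpa using Groth.KTheory.RegSheaf.nonempty_twistOver_add r S 0 0)
  obtain ⟨p⟩ := Groth.KTheory.RegKoszul.nonempty_push_structure r S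
  exact ⟨b ≪≫ (DerivedCategory.singleFunctor _ 0).mapIso
      ((Scheme.Modules.pushforward (KRR.pr r S)).mapIso z ≪≫ p)⟩

/-- `Rf_*O(-r-1) = O[-r]` -/
theorem nonempty_Rpush_bot :
    Nonempty ((DCoh.Rpush (KRR.pr r S)).obj (DCoh.inD _ (Twist.twistOver r S (-(r : ℤ) - 1))) ≅
      (DCoh.inD S (Coh.structureModule S))⟦-(r : ℤ)⟧) := by
  haveI : HasFiniteBiproducts (KRR.PY r S).Modules := Abelian.hasFiniteBiproducts
  obtain ⟨C, hC, hX, hz⟩ := exists_exact_twists r S (-(r : ℤ) - 1)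
  let Φ := DCoh.Rpush (KRR.pr r S)
  let Z : ℤ → DCoh.D S := fun i => Φ.obj (DCoh.inD _ (C.cycles i))
  have hS : ∀ i j : ℤ, i + 1 = j → (ShortComplex.mk (C.iCycles i) (C.toCycles i j)
      (by simp [← cancel_mono (C.iCycles j)])).ShortExact := fun i j h =>
    Groth.PCohPunctual.shortExact_cycles C (i := i) (j := j) (by simp; omega) (by simp; omega) (hC j)
  have hvan : ∀ i : ℕ, 1 ≤ i → i ≤ r → Van r S (C.X (i : ℤ)) := fun i h₁ h₂ =>
    van_iso r S (hX i (by omega)).some.symm (van_sigma r S (van_twist r S _ (by omega) (by omega)) _)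
  have step : ∀ i : ℕ, 1 ≤ i → i ≤ r → Nonempty (Z ((i : ℤ) + 1) ≅ (Z (i : ℤ))⟦(1 : ℤ)⟧) := fun i h₁ h₂ => by
    obtain ⟨c, hc⟩ := Groth.DerivedCoh.PerfPush.exists_distinguished (KRR.pr r S) _
      (hS i ((i : ℤ) + 1) rfl).singleTriangle_distinguished
    haveI : IsIso c := (Triangle.isZero₂_iff_isIso₃ _ hc).1 (hvan i h₁ h₂)
    exact ⟨asIso c⟩
  have all : ∀ i : ℕ, i ≤ r → Nonempty (Z ((i : ℤ) + 1) ≅ (Z 1)⟦(i : ℤ)⟧) := fun i => by
    induction i with
    | zero => exact fun _ => ⟨eqToIso (by simp) ≪≫ ((shiftFunctorZero (DCoh.D S) ℤ).app _).symm⟩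
    | succ i ih =>
      intro h
      obtain ⟨a⟩ := ih (by omega)
      obtain ⟨b⟩ := step (i + 1) (by omega) h
      exact ⟨b ≪≫ eqToIso (by push_cast; rfl) ≪≫ (shiftFunctor _ (1 : ℤ)).mapIso a ≪≫
        ((shiftFunctorAdd' (DCoh.D S) (i : ℤ) 1 ((i + 1 : ℕ) : ℤ) (by push_cast; ring)).app _).symm⟩
  have hZ0 : IsZero (C.cycles 0) := by
    have h := hS (-1) 0 (by omega)
    haveI := h.epi_g
    exact IsZero.of_epi (C.toCycles (-1) 0) (hz (-1) (Or.inl (by omega)))
  haveI : IsIso (C.toCycles 0 1) := (hS 0 1 rfl).isIso_g_iff.2 hZ0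
  have hZtop : IsZero (C.cycles ((r : ℤ) + 1 + 1)) :=
    IsZero.of_mono (C.iCycles ((r : ℤ) + 1 + 1)) (hz _ (Or.inr (by omega)))
  haveI : IsIso (C.iCycles ((r : ℤ) + 1)) := (hS ((r : ℤ) + 1) _ rfl).isIso_f_iff.2 hZtop
  obtain ⟨e₀⟩ := hX 0 (by omega)
  obtain ⟨e₁⟩ := hX (r + 1) le_rfl
  obtain ⟨σ₀⟩ := nonempty_sigma_congr (Iso.refl (Twist.twistOver r S (-(r : ℤ) - 1 + ((0 : ℕ) : ℤ))))
    (show Nat.choose (r + 1) 0 = 1 from Nat.choose_zero_right _)
  obtain ⟨σ₁⟩ := nonempty_sigma_congr (Iso.refl (Twist.twistOver r S (-(r : ℤ) - 1 + ((r + 1 : ℕ) : ℤ))))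
    (show Nat.choose (r + 1) (r + 1) = 1 from Nat.choose_self _)
  let F := DerivedCategory.singleFunctor (KRR.PY r S).Modules 0
  let a₀ : Φ.obj (DCoh.inD _ (Twist.twistOver r S (-(r : ℤ) - 1))) ≅ Z 1 :=
    Φ.mapIso (F.mapIso (eqToIso (by simp) ≪≫ (σ₀ ≪≫ (nonempty_sigma_one _).some).symm ≪≫ e₀.symm ≪≫
      asIso (C.toCycles 0 1)))
  let a₁ : Z ((r : ℤ) + 1) ≅ Φ.obj (DCoh.inD _ (Twist.twistOver r S 0)) :=
    Φ.mapIso (F.mapIso (asIso (C.iCycles ((r : ℤ) + 1)) ≪≫ eqToIso (by push_cast; rfl) ≪≫ e₁ ≪≫ σ₁ ≪≫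
      (nonempty_sigma_one _).some ≪≫ eqToIso (congrArg (Twist.twistOver r S) (by push_cast; ring))))
  obtain ⟨b⟩ := all r le_rfl
  obtain ⟨o⟩ := nonempty_Rpush_structure r S
  exact ⟨a₀ ≪≫ ((shiftFunctorCompIsoId (DCoh.D S) (r : ℤ) (-(r : ℤ)) (by omega)).app (Z 1)).symm ≪≫
    (shiftFunctor _ (-(r : ℤ))).mapIso (b.symm ≪≫ a₁ ≪≫ o)⟩

lemma comp_comm_structure (S : Scheme.{u}) (f g : Coh.structureModule S ⟶ Coh.structureModule S) :
    f ≫ g = g ≫ f := by
  refine (SheafOfModules.unitHomEquiv _).injective (Subtype.ext (funext fun W => ?_))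
  let a : Γ(S, W.unop) := f.app W.unop (1 : Γ(S, W.unop))
  let b : Γ(S, W.unop) := g.app W.unop (1 : Γ(S, W.unop))
  show g.app W.unop a = f.app W.unop b
  have e : ∀ (φ : Coh.structureModule S ⟶ Coh.structureModule S) (c x : Γ(S, W.unop)),
      φ.app W.unop (1 : Γ(S, W.unop)) = c → φ.app W.unop x = x * c := fun φ c x hc => by
    have h := φ.app_smul (r := x) (1 : Γ(S, W.unop))
    exact (congrArg (φ.app W.unop) (mul_one x).symm).trans (h.trans (congrArg (x • ·) hc))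
  exact (e g b a rfl).trans ((mul_comm a b).trans (e f a b rfl).symm)

lemma comm_strMod (S : Scheme.{u}) (k : ℤ) (m n : strMod S k ⟶ strMod S k) : m ≫ n = n ≫ m := by
  obtain ⟨f, rfl⟩ := (DerivedCategory.singleFunctor S.Modules k).map_surjective m
  obtain ⟨g, rfl⟩ := (DerivedCategory.singleFunctor S.Modules k).map_surjective n
  rw [← Functor.map_comp, ← Functor.map_comp, comp_comm_structure]

/-- `O` in degree `k` is a shift of `O` -/
noncomputable def strModShift (X : Scheme.{u}) (k n m : ℤ) (h : m + n = k) :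
    (strMod X k)⟦n⟧ ≅ strMod X m :=
  (SingleFunctors.shiftIso (DerivedCategory.singleFunctors X.Modules) n m k (by omega)).app _

theorem nonempty_Rpush_strMod (k : ℤ) :
    Nonempty ((DCoh.Rpush (KRR.pr r S)).obj (strMod (KRR.PY r S) k) ≅ strMod S k) := by
  obtain ⟨z⟩ := Groth.KTheory.RegSheaf.nonempty_structure_of_idem (Groth.KTheory.RegSheaf.isInvertible_twistOver r S 0)
    (by simpa using Groth.KTheory.RegSheaf.nonempty_twistOver_add r S 0 0)
  obtain ⟨o⟩ := nonempty_Rpush_structure r S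
  obtain ⟨c⟩ := nonempty_Rpush_shift (KRR.pr r S) (strMod (KRR.PY r S) 0) (-k)
  exact ⟨(DCoh.Rpush (KRR.pr r S)).mapIso (strModShift _ 0 (-k) k (by omega)).symm ≪≫ c ≪≫
    (shiftFunctor _ (-k)).mapIso ((DCoh.Rpush (KRR.pr r S)).mapIso
      ((DerivedCategory.singleFunctor _ 0).mapIso z.symm) ≪≫ o) ≪≫ strModShift _ 0 (-k) k (by omega)⟩

variable [DCoh.HasLpull (KRR.pr r S)]

/-- the unit is invertible at shifts of the structure sheaf -/
theorem isIso_unit_strMod (k : ℤ) :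
    IsIso ((Groth.DerivedCoh.PushPull.lpullRpushAdj (KRR.pr r S)).unit.app (strMod S k)) := by
  let adj := Groth.DerivedCoh.PushPull.lpullRpushAdj (KRR.pr r S)
  let F := DCoh.Lpull (KRR.pr r S)
  let G := DCoh.Rpush (KRR.pr r S)
  obtain ⟨v⟩ := nonempty_Lpull_strMod' (KRR.pr r S) k
  obtain ⟨j⟩ := nonempty_Rpush_strMod r S k
  let P := strMod (KRR.PY r S) k
  let L := strMod S k
  let w : G.obj (F.obj L) ≅ L := G.mapIso v ≪≫ j
  let m : L ⟶ L := adj.unit.app L ≫ w.hom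
  let n : L ⟶ L := w.inv ≫ G.map (F.map j.inv) ≫ G.map (adj.counit.app P) ≫ j.hom
  have hmn : m ≫ n = 𝟙 L := by
    have h1 : adj.unit.app L ≫ G.map (F.map j.inv) = j.inv ≫ adj.unit.app (G.obj P) :=
      (adj.unit.naturality j.inv).symm
    simp only [m, n, Category.assoc, Iso.hom_inv_id_assoc]
    rw [reassoc_of% h1, reassoc_of% (adj.right_triangle_components P), Iso.inv_hom_id]
  haveI : IsIso m := ⟨n, hmn, (comm_strMod S k n m).trans hmn⟩
  exact IsIso.of_isIso_comp_right (adj.unit.app L) w.hom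

/-- `Rf_*(Lf^*K(-r-1)) = K[-r]` -/
theorem nonempty_Rpush_pull_bot (K : DCoh.D S) (hK : DCoh.IsQCohD K) :
    Nonempty ((DCoh.Rpush (KRR.pr r S)).obj ((tD r S (-(r : ℤ) - 1)).obj ((DCoh.Lpull (KRR.pr r S)).obj K)) ≅
      K⟦-(r : ℤ)⟧) := by
  obtain ⟨P, hP, hPi, ⟨eP⟩, ⟨a⟩⟩ := exists_projection_twist r S (-(r : ℤ) - 1) K hK
  obtain ⟨b⟩ := nonempty_Rpush_bot r S
  let O := Coh.structureModule S
  let C₀ := (HomologicalComplex.single S.Modules up 0).obj O
  let d : (DCoh.inD S O)⟦-(r : ℤ)⟧ ≅ DCoh.toD S (C₀⟦-(r : ℤ)⟧) :=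
    (shiftFunctor _ (-(r : ℤ))).mapIso ((DerivedCategory.singleFunctorIsoCompQ _ 0).app O) ≪≫
      ((DerivedCategory.Q.commShiftIso (-(r : ℤ))).app C₀).symm
  exact ⟨a.symm ≪≫ (DCoh.LTensorCx P).mapIso (b ≪≫ d) ≪≫
    Groth.DerivedCoh.KFlat.ltcxIso P hP _ ≪≫
    DerivedCategory.Q.mapIso (CochainComplex.mapBifunctorShift₁Iso C₀ P (Groth.DerivedCoh.KFlat.T S) (-(r : ℤ))) ≪≫
    (DerivedCategory.Q.commShiftIso (-(r : ℤ))).app _ ≪≫
    (shiftFunctor _ (-(r : ℤ))).mapIso (DerivedCategory.Q.mapIso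
      (Groth.DerivedCoh.KFlat.totSingleIso (Groth.DerivedCoh.KFlat.T S) O P ≪≫
      (NatIso.mapHomologicalComplex (Groth.Misc4.RHomTensor.tensorModComm _ ≪≫ Groth.PicAux.twistUnitIso) up).app P ≪≫
      (Functor.mapHomologicalComplexIdIso _ up).app P) ≪≫ eP)⟩

omit [DCoh.HasRpush (KRR.pr r S)] in
lemma isQCohD_twPull (d : ℤ) {K : DCoh.D S} (hK : DCoh.IsQCohD K) :
    DCoh.IsQCohD ((tD r S d).obj ((DCoh.Lpull (KRR.pr r S)).obj K)) :=
  isQCohD_twD _ _ (Groth.Misc4.QCohDColim.isQCohD_Lpull _ hK)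

lemma isQCohD_strMod (X : Scheme.{u}) (k : ℤ) : DCoh.IsQCohD (strMod X k) :=
  haveI : (Coh.structureModule X).IsQuasicoherent :=
    Groth.KTheory.LocFree.isQCoh (Groth.LocFree.isFinLocFree_unit X)
  Groth.Misc4.QCohDColim.isQCohD_single _ k

omit [DCoh.HasRpush (KRR.pr r S)] [DCoh.HasLpull (KRR.pr r S)] in
/-- on an affine scheme shifts of `O` detect zero objects -/
theorem isZero_of_strMod [IsAffine S] (E : DCoh.D S) (hE : DCoh.IsQCohD E)
    (h : ∀ (k : ℤ) (φ : strMod S k ⟶ E), φ = 0) : IsZero E := by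
  refine Groth.DerivedCoh.PerfPush.isZero_of_HD fun n => isZero_HD_of_hom_affine S E hE n fun φ => ?_
  let ε := shiftFunctorCompIsoId (DCoh.D S) n (-n) (by omega)
  refine (shiftFunctor (DCoh.D S) (-n)).map_injective ?_
  rw [Functor.map_zero, ← cancel_mono (ε.hom.app E), zero_comp,
    ← cancel_epi (strModShift S 0 (-n) n (by omega)).inv, comp_zero]
  exact h n _

omit [DCoh.HasRpush (KRR.pr r S)] [DCoh.HasLpull (KRR.pr r S)] in
theorem isIso_of_strMod [IsAffine S] {A B : DCoh.D S} (g : A ⟶ B) (hA : DCoh.IsQCohD A)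
    (hB : DCoh.IsQCohD B) (h : ∀ k : ℤ, Function.Bijective fun x : strMod S k ⟶ A => x ≫ g) : IsIso g := by
  obtain ⟨C, u, w, hT⟩ := distinguished_cocone_triangle g
  refine (Triangle.isZero₃_iff_isIso₁ _ hT).1 (isZero_of_strMod S C
    (Groth.Misc4.QCohDPerf.isQCohD_obj₂ _ (rot_of_distTriang _ hT) hB
      (Groth.Misc4.QCohDPerf.isQCohD_shift hA 1)) fun k φ => ?_)
  have h3 : w ≫ g⟦(1 : ℤ)⟧' = 0 := comp_distTriang_mor_zero₃₁ _ hT
  have hw : φ ≫ w = 0 := by
    let s := strModShift S (k + 1) 1 k rfl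
    obtain ⟨x, hx⟩ := (shiftFunctor (DCoh.D S) (1 : ℤ)).map_surjective (s.hom ≫ φ ≫ w)
    have hx0 : x = 0 := (h (k + 1)).1 (show x ≫ g = 0 ≫ g by
      refine (shiftFunctor (DCoh.D S) (1 : ℤ)).map_injective ?_
      rw [zero_comp, Functor.map_zero, Functor.map_comp, hx, Category.assoc, Category.assoc, h3, comp_zero, comp_zero])
    rw [← cancel_epi s.hom, ← hx, hx0, Functor.map_zero, comp_zero]
  obtain ⟨y, hy⟩ := Triangle.coyoneda_exact₃ _ hT φ hw
  obtain ⟨x, hx⟩ := (h k).2 y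
  have h2 : g ≫ u = 0 := comp_distTriang_mor_zero₁₂ _ hT
  rw [hy]
  show y ≫ u = 0
  rw [← show x ≫ g = y from hx, Category.assoc, h2, comp_zero]

/-- **The twisted inverse image of projective space over an affine base.** -/
theorem nonempty_rightAdjoint_iso [IsAffine S] (h : DCoh.RpushPreservesQCoh (KRR.pr r S))
    (a : DCoh.DQCoh S ⥤ DCoh.DQCoh (KRR.PY r S)) (adj : DCoh.RpushQ (KRR.pr r S) h ⊣ a) (K : DCoh.DQCoh S) :
    Nonempty ((a.obj K).obj ≅
      ((tD r S (-(r : ℤ) - 1)).obj ((DCoh.Lpull (KRR.pr r S)).obj K.obj))⟦(r : ℤ)⟧) := by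
  let f := KRR.pr r S
  let G := DCoh.Rpush f
  let adjG := Groth.DerivedCoh.PushPull.lpullRpushAdj f
  let U := ((tD r S (-(r : ℤ) - 1)).obj ((DCoh.Lpull f).obj K.obj))⟦(r : ℤ)⟧
  have hU : DCoh.IsQCohD U := Groth.Misc4.QCohDPerf.isQCohD_shift (isQCohD_twPull r S _ K.property) _
  let U₀ : DCoh.DQCoh (KRR.PY r S) := ⟨U, hU⟩
  obtain ⟨p⟩ := nonempty_Rpush_pull_bot r S K.obj K.property
  obtain ⟨c⟩ := nonempty_Rpush_shift f ((tD r S (-(r : ℤ) - 1)).obj ((DCoh.Lpull f).obj K.obj)) (r : ℤ)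
  let e : G.obj U ≅ K.obj := c ≪≫ (shiftFunctor _ (r : ℤ)).mapIso p ≪≫
    (shiftFunctorCompIsoId (DCoh.D S) (-(r : ℤ)) (r : ℤ) (by omega)).app _
  let e₀ : (DCoh.RpushQ f h).obj U₀ ⟶ K := ObjectProperty.homMk e.hom
  let φ₀ := adj.homEquiv _ _ e₀
  let φ : U ⟶ (a.obj K).obj := φ₀.hom
  let ε : G.obj (a.obj K).obj ⟶ K.obj := (adj.counit.app K).hom
  have hφ : G.map φ ≫ ε = e.hom := by
    have := (adj.homEquiv_counit (g := φ₀)).symm.trans ((adj.homEquiv _ _).symm_apply_apply e₀)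
    exact congrArg (fun q => q.hom) this
  have hε : IsIso ε := by
    refine isIso_of_strMod S ε (h _ (a.obj K).property) K.property fun k => ?_
    haveI := isIso_unit_strMod r S k
    let L₀ : DCoh.DQCoh (KRR.PY r S) :=
      ⟨(DCoh.Lpull f).obj (strMod S k), Groth.Misc4.QCohDColim.isQCohD_Lpull _ (isQCohD_strMod S k)⟩
    have key : ∀ χ : (DCoh.Lpull f).obj (strMod S k) ⟶ (a.obj K).obj,
        adjG.homEquiv _ _ χ ≫ ε =
          adjG.unit.app _ ≫ ((adj.homEquiv L₀ K).symm (ObjectProperty.homMk χ)).hom := fun χ => by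
      rw [Adjunction.homEquiv_unit, Adjunction.homEquiv_counit, Category.assoc]
      rfl
    refine ⟨fun x y hxy => ?_, fun y => ?_⟩
    · obtain ⟨χ, rfl⟩ := (adjG.homEquiv _ _).surjective x
      obtain ⟨χ', rfl⟩ := (adjG.homEquiv _ _).surjective y
      simp only [key, cancel_epi] at hxy
      exact congrArg (adjG.homEquiv _ _) (congrArg (fun q => q.hom)
        ((adj.homEquiv L₀ K).symm.injective (ObjectProperty.hom_ext _ hxy)))
    · let ψ : (DCoh.RpushQ f h).obj L₀ ⟶ K := ObjectProperty.homMk (inv (adjG.unit.app (strMod S k)) ≫ y)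
      refine ⟨adjG.homEquiv _ _ (adj.homEquiv L₀ K ψ).hom, ?_⟩
      show adjG.homEquiv _ _ (adj.homEquiv L₀ K ψ).hom ≫ ε = y
      rw [key]
      show adjG.unit.app _ ≫ ((adj.homEquiv L₀ K).symm (adj.homEquiv L₀ K ψ)).hom = y
      rw [Equiv.symm_apply_apply]
      exact IsIso.hom_inv_id_assoc _ _
  haveI : IsIso (G.map φ) := by
    haveI : IsIso (G.map φ ≫ ε) := by rw [hφ]; infer_instance
    exact IsIso.of_isIso_comp_right (G.map φ) ε
  obtain ⟨Z, u, w, hT⟩ := distinguished_cocone_triangle φ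
  have hZq : DCoh.IsQCohD Z := Groth.Misc4.QCohDPerf.isQCohD_obj₂ _ (rot_of_distTriang _ hT)
    (a.obj K).property (Groth.Misc4.QCohDPerf.isQCohD_shift hU 1)
  have hG : ∀ j : ℕ, j ≤ r → IsZero (G.obj ((tD r S (j : ℤ)).obj Z)) := by
    intro j hj
    rcases Nat.eq_zero_or_pos j with rfl | hj0
    · obtain ⟨z⟩ := Groth.KTheory.RegSheaf.nonempty_structure_of_idem (Groth.KTheory.RegSheaf.isInvertible_twistOver r S 0)
        (by simpa using Groth.KTheory.RegSheaf.nonempty_twistOver_add r S 0 0)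
      obtain ⟨c', hc'⟩ := Groth.DerivedCoh.PerfPush.exists_distinguished f _ hT
      have h0 : IsZero (G.obj Z) := (Triangle.isZero₃_iff_isIso₁ _ hc').2 ‹IsIso (G.map φ)›
      obtain ⟨t⟩ := nonempty_twD_congr (Groth.KTheory.RegSheaf.isInvertible_twistOver r S 0)
        (isInvertible_structure _) z Z
      obtain ⟨C, ⟨cC⟩⟩ := Groth.KTheory.Perf.exists_rep Z
      exact h0.of_iso (G.mapIso (t ≪≫ (twD _ (isInvertible_structure _)).mapIso cC.symm ≪≫
        (twDQIso _ (isInvertible_structure _)).app C ≪≫ DerivedCategory.Q.mapIso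
          ((NatIso.mapHomologicalComplex Groth.PicAux.twistUnitIso up).app C ≪≫
            (Functor.mapHomologicalComplexIdIso _ up).app C) ≪≫ cC))
    · obtain ⟨c', hc'⟩ := Groth.DerivedCoh.PerfPush.exists_distinguished f _ ((tD r S (j : ℤ)).map_distinguished _ hT)
      refine Triangle.isZero₃_of_isZero₁₂ _ hc' ?_ ?_
      · show IsZero (G.obj ((tD r S (j : ℤ)).obj U))
        obtain ⟨t⟩ := nonempty_twD_twistOver_add r S (-(r : ℤ) - 1) (j : ℤ) ((j : ℤ) - r - 1) (by ring)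
          ((DCoh.Lpull f).obj K.obj)
        obtain ⟨c₂⟩ := nonempty_Rpush_shift f ((tD r S (j : ℤ)).obj ((tD r S (-(r : ℤ) - 1)).obj
          ((DCoh.Lpull f).obj K.obj))) (r : ℤ)
        exact IsZero.of_iso ((shiftFunctor _ (r : ℤ)).map_isZero
          ((isZero_Rpush_pull_twist r S ((j : ℤ) - r - 1) (by omega) (by omega) K.obj K.property).of_iso
            (G.mapIso t))) (G.mapIso (((tD r S (j : ℤ)).commShiftIso (r : ℤ)).app _) ≪≫ c₂)
      · show IsZero (G.obj ((tD r S (j : ℤ)).obj (a.obj K).obj))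
        refine isZero_of_strMod S _ (h _ (isQCohD_twD _ _ (a.obj K).property)) fun k x => ?_
        obtain ⟨χ, rfl⟩ := (adjG.homEquiv _ _).surjective x
        let V : DCoh.DQCoh (KRR.PY r S) := ⟨(tD r S (-(j : ℤ))).obj ((DCoh.Lpull f).obj (strMod S k)),
          isQCohD_twPull r S _ (isQCohD_strMod S k)⟩
        have hV : ∀ ψ : V.obj ⟶ (a.obj K).obj, ψ = 0 := fun ψ => by
          have hz := isZero_Rpush_pull_twist r S (-(j : ℤ)) (by omega) (by omega) (strMod S k) (isQCohD_strMod S k)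
          have e1 : ((adj.homEquiv V K).symm (ObjectProperty.homMk ψ)) =
              ((adj.homEquiv V K).symm (ObjectProperty.homMk 0)) :=
            ObjectProperty.hom_ext _ (hz.eq_of_src _ _)
          exact congrArg (fun q => q.hom) ((adj.homEquiv V K).symm.injective e1)
        obtain ⟨tt⟩ := nonempty_tD_tD r S (j : ℤ) (-(j : ℤ)) (by ring)
        haveI := isEquivalence_twD _ (Groth.KTheory.RegSheaf.isInvertible_twistOver r S (-(j : ℤ)))
        have hχ : χ = 0 := by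
          refine (tD r S (-(j : ℤ))).map_injective ?_
          rw [Functor.map_zero, ← cancel_mono (tt.hom.app _), zero_comp]
          exact hV _
        haveI : (DCoh.Rpush f).PreservesZeroMorphisms :=
          haveI := adjG.isRightAdjoint
          Functor.preservesZeroMorphisms_of_preserves_terminal_object
        rw [hχ, Adjunction.homEquiv_unit, Functor.map_zero, comp_zero]
  have hZ : IsZero Z := by
    have h1 : IsZero ((tD r S (r : ℤ)).obj Z) := by
      refine isZero_of_Rpush_twists r S _ (isQCohD_twD _ _ hZq) fun i hi => ?_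
      obtain ⟨t⟩ := nonempty_twD_twistOver_add r S (r : ℤ) (-(i : ℤ)) ((r - i : ℕ) : ℤ) (by omega) Z
      exact (hG (r - i) (by omega)).of_iso (G.mapIso t)
    haveI := isEquivalence_twD _ (Groth.KTheory.RegSheaf.isInvertible_twistOver r S (r : ℤ))
    rw [IsZero.iff_id_eq_zero]
    exact (tD r S (r : ℤ)).map_injective (h1.eq_of_src _ _)
  haveI : IsIso φ := (Triangle.isZero₃_iff_isIso₁ _ hT).1 hZ
  exact ⟨(asIso φ).symm⟩

end Groth.DualShriek.Pn
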