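import Groth.Agent.Misc4.KillSupported
import Groth.Agent.Misc4.ProjQCoh
import Groth.Agent.Misc4.ProjPerfect
import Groth.Agent.Misc4.QCohDTensor
import Groth.Agent.Misc4.QcqsExtend
import Groth.Agent.DerivedCoh.Duality.Braid
import Groth.Agent.DerivedCoh.PerfFP.SplitH0Fibre
import Groth.Agent.DualShriek.DQ

/-!
The right adjoint of `Rf_*` and supports.
-/

universe u

open CategoryTheory CategoryTheory.Limits CategoryTheory.Pretriangulated AlgebraicGeometry HomologicalComplex

attribute [local instance] HasDerivedCategory.standard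

set_option backward.isDefEq.respectTransparency false
set_option maxHeartbeats 1000000
set_option synthInstance.maxHeartbeats 400000

namespace Groth.DualShriek

open Groth.DerivedCoh.KFlat (T IsKFlat tot totL totR pushCx pullCx kres kresAug flatResolution flatResolutionAug L₀ L₀Q)
open Groth.DerivedCoh.ExtZero (resCx)
open Groth.DerivedCoh.Duality (unitN brIso lamTot rtTot rtTot_natural₂)
open Groth.Misc4.KillSupported (Off)
open Groth.Misc4.ProjPerfect (theta theta_natural isKFlat_res_pull cl qc qiso qres)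

local notation "up" => ComplexShape.up ℤ

variable {X Y : Scheme.{u}}

lemma isKFlat_unitN (Y : Scheme.{u}) : IsKFlat (T Y) (unitN Y) :=
  Groth.DerivedCoh.PCoh.isKFlat_of_isStrictlyPerfect
    (Groth.DerivedCoh.Duality.isStrictlyPerfect_single (Groth.LocFree.isFinLocFree_unit Y) 0)

lemma isPerfect_unitN (Y : Scheme.{u}) : DCoh.IsPerfect (DCoh.toD Y (unitN Y)) :=
  Groth.Misc4.QCohDRHom.isPerfect_toD
    (Groth.DerivedCoh.Duality.isStrictlyPerfect_single (Groth.LocFree.isFinLocFree_unit Y) 0)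

/-- `I ⊗ f^*O ≅ I` -/
theorem nonempty_tot_pull_unit (f : X ⟶ Y) (I : CochainComplex X.Modules ℤ) :
    Nonempty (tot (T X) I ((pullCx f).obj (unitN Y)) ≅ I) := by
  obtain ⟨u⟩ := Groth.PicAux.pullback_structure_iso f
  let e : (pullCx f).obj (unitN Y) ≅ unitN X :=
    (singleMapHomologicalComplex (Scheme.Modules.pullback f) up 0).app _ ≪≫
      (single X.Modules up 0).mapIso u
  exact ⟨(totR (T X) I).mapIso e ≪≫ brIso I (unitN X) ≪≫ (lamTot I).symm⟩

/-- a map of locally K-flat complexes which is a quasi-isomorphism over `W` stays one after pulling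
back and tensoring, over `f⁻¹W` -/
theorem quasiIso_res_tot_pull (f : X ⟶ Y) (W : Y.Opens) (I : CochainComplex X.Modules ℤ)
    {P P' : CochainComplex Y.Modules ℤ} (α : P ⟶ P') (hα : QuasiIso ((resCx W.ι).map α))
    (hP : IsKFlat (T Y) P) (hP' : IsKFlat (T Y) P') :
    QuasiIso ((resCx (f ⁻¹ᵁ W).ι).map ((totR (T X) I).map ((pullCx f).map α))) := by
  haveI := hα
  let U := f ⁻¹ᵁ W
  have hP₁ := Groth.DerivedCoh.PCoh.isKFlat_rc W.ι hP
  have hP₂ := Groth.DerivedCoh.PCoh.isKFlat_rc W.ι hP'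
  have hpull : QuasiIso ((resCx U.ι).map ((pullCx f).map α)) := by
    let c : pullCx f ⋙ resCx U.ι ≅ resCx W.ι ⋙ pullCx (f ∣_ W) :=
      NatIso.mapHomologicalComplex (Groth.DerivedCoh.PCoh.pullRestrictIso f W) up
    haveI : QuasiIso ((resCx W.ι ⋙ pullCx (f ∣_ W)).map α) :=
      Groth.DerivedCoh.KFlat.quasiIso_pullCx (f ∣_ W) hP₁ hP₂ ((resCx W.ι).map α)
    haveI : QuasiIso (c.hom.app P ≫ (resCx W.ι ⋙ pullCx (f ∣_ W)).map α) := inferInstance
    haveI : QuasiIso ((pullCx f ⋙ resCx U.ι).map α ≫ c.hom.app P') := by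
      rw [c.hom.naturality α]; infer_instance
    exact quasiIso_of_comp_right ((pullCx f ⋙ resCx U.ι).map α) (c.hom.app P')
  haveI := hpull
  haveI : QuasiIso ((flatResolutionAug _).app ((resCx U.ι).obj I)) :=
    Groth.DerivedCoh.KFlat.flatResolution_quasiIso _
  haveI : QuasiIso ((totR (T _) ((resCx U.ι).obj I)).map ((resCx U.ι).map ((pullCx f).map α))) :=
    (isKFlat_res_pull f W hP₁).quasiIso_totR (isKFlat_res_pull f W hP₂)
      ((resCx U.ι).map ((pullCx f).map α))
      ((flatResolutionAug _).app ((resCx U.ι).obj I))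
      (Groth.DerivedCoh.KFlat.flatResolution_isKFlat_flip _)
  exact cl (a := (rtTot U.ι I ((pullCx f).obj P)).hom) (qiso _) (rtTot_natural₂ U.ι I ((pullCx f).map α) ▸
    qc (a := (totR (T _) ((resCx U.ι).obj I)).map ((resCx U.ι).map ((pullCx f).map α)))
      (b := (rtTot U.ι I ((pullCx f).obj P')).hom) inferInstance (qiso _))

/-- `Rf_*` at a K-injective complex -/
noncomputable def pushQIso (f : X ⟶ Y) [DCoh.HasRpush f] (J : CochainComplex X.Modules ℤ)
    [J.IsKInjective] : (DCoh.Rpush f).obj (DCoh.toD X J) ≅ DCoh.toD Y ((pushCx f).obj J) :=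
  (DCoh.Rpush f).mapIso ((L₀Q X).symm.app J) ≪≫
    (@asIso _ _ _ _ _ (Groth.DerivedCoh.KFlat.isIso_pushUnit_app f J)).symm ≪≫
    (L₀Q Y).app ((pushCx f).obj J)

theorem pushQIso_natural (f : X ⟶ Y) [DCoh.HasRpush f] {J J' : CochainComplex X.Modules ℤ}
    [J.IsKInjective] [J'.IsKInjective] (g : J ⟶ J') :
    (DCoh.Rpush f).map (DerivedCategory.Q.map g) ≫ (pushQIso f J').hom =
      (pushQIso f J).hom ≫ DerivedCategory.Q.map ((pushCx f).map g) := by
  have h1 := ((DCoh.pushKh f).totalRightDerivedUnit DerivedCategory.Qh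
    (HomotopyCategory.quasiIso X.Modules up)).naturality ((HomotopyCategory.quotient X.Modules up).map g)
  have h2 := (L₀Q X).inv.naturality g
  have h3 := (L₀Q Y).hom.naturality ((pushCx f).map g)
  haveI := Groth.DerivedCoh.KFlat.isIso_pushUnit_app f J
  haveI := Groth.DerivedCoh.KFlat.isIso_pushUnit_app f J'
  simp only [pushQIso, Iso.trans_hom, Functor.mapIso_hom, Iso.app_hom, Iso.symm_hom, asIso_inv,
    Iso.app_inv, Category.assoc]
  rw [← Functor.map_comp_assoc, h2, Functor.map_comp, Category.assoc, ← h3]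
  congr 1
  rw [← Category.assoc, ← Category.assoc]
  congr 1
  rw [IsIso.eq_inv_comp, ← Category.assoc, IsIso.comp_inv_eq]
  exact h1.symm

/-- A map `Rf_*R → Q` with `Q` zero over `W` dies on some `R' → R` invertible over `f⁻¹W`. -/
theorem exists_killed_push (f : X ⟶ Y) [CompactSpace Y] [QuasiSeparatedSpace Y] [DCoh.HasRpush f]
    (W : Y.Opens) (hW : IsCompact (W : Set Y)) (R : DCoh.D X) (hR : DCoh.IsQCohD R) (Q : DCoh.D Y)
    (hQW : Off W Q)
    (hQR : ∀ (K : CochainComplex Y.Modules ℤ) [DCoh.HasLTensorCx K] [DCoh.HasRSheafHom K],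
      Nonempty (DCoh.toD Y K ≅ (DCoh.Rpush f).obj R) → DCoh.IsQCohD ((DCoh.RSheafHom K).obj Q))
    (ψ : (DCoh.Rpush f).obj R ⟶ Q) [QuasiCompact f] [QuasiSeparated f] :
    ∃ (R' : DCoh.D X) (k : R' ⟶ R), DCoh.IsQCohD R' ∧
      IsIso ((DCoh.restrictD (f ⁻¹ᵁ W).ι).map k) ∧ (DCoh.Rpush f).map k ≫ ψ = 0 := by
  obtain ⟨C, ⟨eC⟩⟩ := Groth.KTheory.Perf.exists_rep R
  let I := (kres X).obj C
  haveI := fun M : CochainComplex X.Modules ℤ =>
    (DerivedCategory.isIso_Q_map_iff_quasiIso _ ((kresAug X).app M)).2 inferInstance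
  let eI : DCoh.toD X I ≅ R := (asIso (DerivedCategory.Q.map ((kresAug X).app C))).symm ≪≫ eC
  have hI : DCoh.IsQCohD (DCoh.toD X I) := Groth.Misc4.QCohDPerf.isQCohD_of_iso eI.symm hR
  let J := (pushCx f).obj I
  let F := (flatResolution Y).obj J
  let π : F ⟶ J := (flatResolutionAug Y).app J
  have hF : IsKFlat (T Y) F := Groth.DerivedCoh.KFlat.flatResolution_isKFlat J
  haveI : IsIso (DerivedCategory.Q.map π) :=
    (DerivedCategory.isIso_Q_map_iff_quasiIso _ _).2 (Groth.DerivedCoh.KFlat.flatResolution_quasiIso J)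
  haveI := Groth.DerivedCoh.KFlat.hasLTensorCx F
  haveI := Groth.Misc4.KillSupported.hasRSheafHom_any F
  have hH : DCoh.IsQCohD ((DCoh.RSheafHom F).obj Q) :=
    hQR F ⟨asIso (DerivedCategory.Q.map π) ≪≫ (pushQIso f I).symm ≪≫ (DCoh.Rpush f).mapIso eI⟩
  -- at the unit
  let P₀ := unitN Y
  obtain ⟨u⟩ := nonempty_tot_pull_unit f I
  let C₀ := tot (T X) I ((pullCx f).obj P₀)
  let θ : DCoh.toD X ((kres X).obj C₀) ≅ R :=
    (asIso (DerivedCategory.Q.map ((kresAug X).app C₀))).symm ≪≫ DerivedCategory.Q.mapIso u ≪≫ eI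
  let ψ'' : DCoh.toD Y ((pushCx f).obj ((kres X).obj C₀)) ⟶ Q :=
    (pushQIso f ((kres X).obj C₀)).inv ≫ (DCoh.Rpush f).map θ.hom ≫ ψ
  let c : ∀ P : CochainComplex Y.Modules ℤ, tot (T Y) P F ⟶
      (pushCx f).obj ((kres X).obj (tot (T X) I ((pullCx f).obj P))) := fun P =>
    (totR (T Y) P).map π ≫ (brIso P J).hom ≫ theta f I P
  let eF := Groth.DerivedCoh.KFlat.ltcxNatIso F hF
  let χ : (DCoh.LTensorCx F).obj (DCoh.toD Y P₀) ⟶ Q := eF.hom.app P₀ ≫ DerivedCategory.Q.map (c P₀) ≫ ψ''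
  let α := (DCoh.RSheafHomAdj F).homEquiv _ _ χ
  obtain ⟨M, ι, hM, hι, hια⟩ := Groth.Misc4.KillSupported.exists_killed hW (DCoh.toD Y P₀)
    (isPerfect_unitN Y) ((DCoh.RSheafHom F).obj Q) hH (Groth.Misc4.KillSupported.off_rhom F hQW) α
  -- represent `ι` by a map of K-flat complexes
  obtain ⟨M₀, ⟨eM⟩⟩ := Groth.KTheory.Perf.exists_rep M
  obtain ⟨A, s, hs, g, hfac⟩ := DerivedCategory.right_fac (eM.hom ≫ ι)
  haveI := hs
  let P := (flatResolution Y).obj A
  let ρ : P ⟶ A := (flatResolutionAug Y).app A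
  haveI : IsIso (DerivedCategory.Q.map ρ) :=
    (DerivedCategory.isIso_Q_map_iff_quasiIso _ _).2 (Groth.DerivedCoh.KFlat.flatResolution_quasiIso A)
  let g₀ : P ⟶ P₀ := ρ ≫ g
  have hP : IsKFlat (T Y) P := Groth.DerivedCoh.KFlat.flatResolution_isKFlat A
  let eP : DCoh.toD Y P ≅ M := asIso (DerivedCategory.Q.map ρ) ≪≫ asIso (DerivedCategory.Q.map s) ≪≫ eM
  have hg : DerivedCategory.Q.map g₀ = eP.hom ≫ ι := by
    simp only [eP, g₀, Iso.trans_hom, asIso_hom, Category.assoc, Functor.map_comp]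
    rw [hfac, IsIso.hom_inv_id_assoc]
  have hPp : DCoh.IsPerfect (DCoh.toD Y P) := Groth.KTheory.Perf.isPerfect_of_iso eP.symm hM
  let t := (totR (T X) I).map ((pullCx f).map g₀)
  let β := (kres X).map t
  refine ⟨DCoh.toD X ((kres X).obj (tot (T X) I ((pullCx f).obj P))), DerivedCategory.Q.map β ≫ θ.hom,
    ?_, ?_, ?_⟩
  · haveI := Groth.DerivedCoh.KFlat.hasLpull f
    haveI := Groth.DerivedCoh.KFlat.hasLTensorCx ((pullCx f).obj P)
    refine Groth.Misc4.QCohDPerf.isQCohD_of_iso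
      (Groth.DerivedCoh.KFlat.ltcxIso _ (Groth.DerivedCoh.KFlat.isKFlat_pullCx f P hP) I ≪≫
        asIso (DerivedCategory.Q.map ((kresAug X).app (tot (T X) I ((pullCx f).obj P)))))
      (Groth.Misc4.QCohDTensor.isQCohD_LTensorCx _ ?_ hI)
    exact Groth.Misc4.Thomason.isQCohD_of_isPerfect (Groth.KTheory.Perf.isPerfect_of_iso
      (Groth.DerivedCoh.KFlat.lpullQIso f P hP) (Groth.DerivedCoh.PCoh.isPerfect_Lpull f hPp))
  · let U := f ⁻¹ᵁ W
    haveI := hι
    have hg₀ : QuasiIso ((resCx W.ι).map g₀) := by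
      rw [← DerivedCategory.isIso_Q_map_iff_quasiIso]
      refine (NatIso.isIso_map_iff (Scheme.Modules.restrictFunctor W.ι).mapDerivedCategoryFactors g₀).1 ?_
      show IsIso ((DCoh.restrictD W.ι).map (DerivedCategory.Q.map g₀))
      rw [hg, Functor.map_comp]
      infer_instance
    haveI := quasiIso_res_tot_pull f W I g₀ hg₀ hP (isKFlat_unitN Y)
    haveI : QuasiIso ((resCx U.ι).map β) := by
      have e : (resCx U.ι).map t ≫ (resCx U.ι).map ((kresAug X).app C₀) =
          (resCx U.ι).map ((kresAug X).app (tot (T X) I ((pullCx f).obj P))) ≫ (resCx U.ι).map β :=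
        ((resCx U.ι).map_comp _ _).symm.trans ((congrArg _ ((kresAug X).naturality t)).trans
          ((resCx U.ι).map_comp _ _))
      exact cl (a := (resCx U.ι).map ((kresAug X).app (tot (T X) I ((pullCx f).obj P))))
        (qres U.ι ((kresAug X).app _)) (e ▸ qc (a := (resCx U.ι).map t) inferInstance (qres U.ι ((kresAug X).app _)))
    haveI : IsIso ((DCoh.restrictD U.ι).map (DerivedCategory.Q.map β)) :=
      (NatIso.isIso_map_iff (Scheme.Modules.restrictFunctor U.ι).mapDerivedCategoryFactors β).2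
        ((DerivedCategory.isIso_Q_map_iff_quasiIso _ _).2 inferInstance)
    rw [Functor.map_comp]
    infer_instance
  · have hLα : (DCoh.LTensorCx F).map (DerivedCategory.Q.map g₀) ≫ χ = 0 := by
      haveI : (DCoh.LTensorCx F).PreservesZeroMorphisms :=
        Functor.preservesZeroMorphisms_of_preserves_initial_object
      have hm : DerivedCategory.Q.map g₀ ≫ α = 0 := by
        rw [hg, Category.assoc, hια, comp_zero]
      have e := (DCoh.RSheafHomAdj F).homEquiv_naturality_left_symm (DerivedCategory.Q.map g₀) α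
      rw [hm, Adjunction.homEquiv_counit, Functor.map_zero, zero_comp] at e
      simp only [α, Equiv.symm_apply_apply] at e
      exact e.symm
    have hc : (totL (T Y) F).map g₀ ≫ c P₀ = c P ≫ (pushCx f).map β := by
      have h1 : (totL (T Y) F).map g₀ ≫ (totR (T Y) P₀).map π =
          (totR (T Y) P).map π ≫ (totL (T Y) J).map g₀ :=
        (((T Y).map₂CochainComplex.map g₀).naturality π).symm
      have h2 : (totL (T Y) J).map g₀ ≫ (brIso P₀ J).hom = (brIso P J).hom ≫ (totR (T Y) J).map g₀ :=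
        Groth.DerivedCoh.Duality.br_natural P J g₀ (𝟙 J)
      simp only [c, Category.assoc]
      rw [← theta_natural, reassoc_of% h1, reassoc_of% h2]
    haveI : IsIso (DerivedCategory.Q.map (c P)) := by
      haveI : IsIso (DerivedCategory.Q.map ((totR (T Y) P).map π)) :=
        (DerivedCategory.isIso_Q_map_iff_quasiIso _ _).2
          (haveI := Groth.DerivedCoh.KFlat.flatResolution_quasiIso J
           Groth.DerivedCoh.KFlat.quasiIso_totR (T Y) (Groth.DerivedCoh.KFlat.flatResolution_isKFlat_flip A) π)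
      haveI : IsIso (DerivedCategory.Q.map (theta f I P)) :=
        (DerivedCategory.isIso_Q_map_iff_quasiIso _ _).2
          (Groth.Misc4.ProjQCoh.quasiIso_theta f I inferInstance hI P hP
            (Groth.Misc4.Thomason.isQCohD_of_isPerfect hPp))
      simp only [c, Functor.map_comp]
      infer_instance
    have h0 : DerivedCategory.Q.map ((pushCx f).map β) ≫ ψ'' = 0 := by
      have e : (DCoh.LTensorCx F).map (DerivedCategory.Q.map g₀) ≫ eF.hom.app P₀ =
          eF.hom.app P ≫ DerivedCategory.Q.map ((totL (T Y) F).map g₀) := eF.hom.naturality g₀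
      have h1 : eF.hom.app P ≫ DerivedCategory.Q.map (c P) ≫ DerivedCategory.Q.map ((pushCx f).map β) ≫ ψ'' = 0 := by
        rw [← Functor.map_comp_assoc, ← hc, Functor.map_comp, Category.assoc]
        exact ((reassoc_of% e) _).symm.trans hLα
      refine (cancel_epi (DerivedCategory.Q.map (c P))).1 ?_
      refine (cancel_epi (eF.hom.app P)).1 (h1.trans ?_)
      exact ((congrArg (eF.hom.app P ≫ ·) comp_zero).trans comp_zero).symm
    have e := pushQIso_natural f β
    have e' := (Iso.eq_comp_inv _).2 e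
    refine (congrArg (· ≫ ψ) ((DCoh.Rpush f).map_comp _ _)).trans ?_
    refine (Category.assoc _ _ _).trans ((congrArg (· ≫ _) e').trans ?_)
    refine (Category.assoc _ _ _).trans ((Category.assoc _ _ _).trans ?_)
    exact (congrArg ((pushQIso f _).hom ≫ ·) h0).trans comp_zero

/-- **The right adjoint of `Rf_*` preserves supports**, over a quasi-compact open. -/
theorem off_rightAdjoint (f : X ⟶ Y) [CompactSpace Y] [QuasiSeparatedSpace Y] [QuasiCompact f] [QuasiSeparated f]
    [DCoh.HasRpush f] (h : DCoh.RpushPreservesQCoh f) (a : DCoh.DQCoh Y ⥤ DCoh.DQCoh X)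
    (adj : DCoh.RpushQ f h ⊣ a) (Q : DCoh.DQCoh Y) (W : Y.Opens) (hW : IsCompact (W : Set Y))
    (hQW : Off W Q.obj)
    (hQR : ∀ (R : DCoh.D X), DCoh.IsPerfect R →
      ∀ (K : CochainComplex Y.Modules ℤ) [DCoh.HasLTensorCx K] [DCoh.HasRSheafHom K],
        Nonempty (DCoh.toD Y K ≅ (DCoh.Rpush f).obj R) → DCoh.IsQCohD ((DCoh.RSheafHom K).obj Q.obj)) :
    Off (f ⁻¹ᵁ W) (a.obj Q).obj := by
  haveI : CompactSpace X := QuasiCompact.compactSpace_of_compactSpace f
  haveI : QuasiSeparatedSpace X := quasiSeparatedSpace_of_quasiSeparated f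
  let U := f ⁻¹ᵁ W
  have hU : IsCompact (U : Set X) := f.isCompact_preimage hW
  haveI : CompactSpace (U : Scheme.{u}) := isCompact_iff_compactSpace.mp hU
  haveI : QuasiSeparatedSpace (U : Scheme.{u}) := quasiSeparatedSpace_of_quasiSeparated U.ι
  obtain ⟨P, hP, -, hgen⟩ := Groth.Misc4.PerfectGenerator.gen (U : Scheme.{u}) Set.univ isClosed_univ
    (fun V hV hVo => by simp)
  refine hgen _ (Groth.Misc4.QCohDPerf.isQCohD_restrict U.ι (a.obj Q).property)
    (fun i => Set.subset_univ _) fun n φ => ?_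
  obtain ⟨R, β, i, p, hR, -, -, hiβ⟩ := Groth.Misc4.QcqsExtend.exists_retract U hU (T := Set.univ)
    isClosed_univ (by simp) (a.obj Q).property _ (Groth.KTheory.Perf.isPerfect_shift hP n)
    (fun i => by simp) φ
  let R₀ : DCoh.DQCoh X := ⟨R, Groth.Misc4.Thomason.isQCohD_of_isPerfect hR⟩
  let β₀ : R₀ ⟶ a.obj Q := ObjectProperty.homMk β
  let ψ := (adj.homEquiv _ _).symm β₀
  obtain ⟨R', k, hR', hk, hk0⟩ := exists_killed_push f W hW R R₀.property Q.obj hQW (hQR R hR) ψ.hom
  let k₀ : (⟨R', hR'⟩ : DCoh.DQCoh X) ⟶ R₀ := ObjectProperty.homMk k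
  have h0 : k ≫ β = 0 := by
    have e : (adj.homEquiv _ _).symm (k₀ ≫ β₀) = 0 := by
      rw [Adjunction.homEquiv_naturality_left_symm]
      exact ObjectProperty.hom_ext _ hk0
    haveI : a.PreservesZeroMorphisms :=
      haveI := adj.isRightAdjoint
      Functor.preservesZeroMorphisms_of_preserves_terminal_object
    have e' : k₀ ≫ β₀ = 0 := by
      rw [Equiv.symm_apply_eq] at e
      rw [e, Adjunction.homEquiv_unit, Functor.map_zero, comp_zero]
    exact congrArg (fun q => q.hom) e'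
  haveI := hk
  have h1 : (DCoh.restrictD U.ι).map β = 0 := by
    rw [← cancel_epi ((DCoh.restrictD U.ι).map k), ← Functor.map_comp, h0, Functor.map_zero, comp_zero]
  rw [← hiβ]
  exact (congrArg (i ≫ ·) h1).trans comp_zero

/-- An object vanishes over an open as soon as its cohomology sheaves do. -/
theorem off_of_restrict (L : DCoh.D Y) {V W : Y.Opens} (hWV : W ≤ V)
    (h : ∀ i : ℤ, IsZero ((DCoh.HD L i).restrict V.ι)) : Off W L :=
  (Groth.Misc4.KillSupported.off_iff L).2 fun i x hx hxW =>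
    (Groth.CohTwo.notMem_support_iff (DCoh.HD L i) x).2
      (AddCommGrpCat.subsingleton_of_isZero
        ((Groth.QCohMod.isZero_restrict_iff_stalk _ V).1 (h i) x (hWV hxW))) hx

/-- **The right adjoint of `Rf_*` preserves supports.** -/
theorem isZero_rightAdjoint (f : X ⟶ Y) [CompactSpace Y] [QuasiSeparatedSpace Y] [QuasiCompact f] [QuasiSeparated f]
    [DCoh.HasRpush f] (h : DCoh.RpushPreservesQCoh f) (a : DCoh.DQCoh Y ⥤ DCoh.DQCoh X)
    (adj : DCoh.RpushQ f h ⊣ a) (Q : DCoh.DQCoh Y) (V : Y.Opens)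
    (hQV : ∀ i : ℤ, IsZero ((DCoh.HD Q.obj i).restrict V.ι))
    (hQR : ∀ (R : DCoh.D X), DCoh.IsPerfect R →
      ∀ (K : CochainComplex Y.Modules ℤ) [DCoh.HasLTensorCx K] [DCoh.HasRSheafHom K],
        Nonempty (DCoh.toD Y K ≅ (DCoh.Rpush f).obj R) → DCoh.IsQCohD ((DCoh.RSheafHom K).obj Q.obj))
    (i : ℤ) : IsZero ((DCoh.HD (a.obj Q).obj i).restrict (f ⁻¹ᵁ V).ι) := by
  refine (Groth.QCohMod.isZero_restrict_iff_stalk _ (f ⁻¹ᵁ V)).2 fun x hx => ?_
  obtain ⟨W, hW, hxW, hWV⟩ := exists_isAffineOpen_mem_and_subset (x := f.base x) (U := V) hx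
  have := (Groth.Misc4.KillSupported.off_iff _).1
    (off_rightAdjoint f h a adj Q W hW.isCompact (off_of_restrict Q.obj hWV hQV) hQR) i
  haveI := (Groth.CohTwo.notMem_support_iff (DCoh.HD (a.obj Q).obj i) x).1 fun hs => this hs hxW
  exact AddCommGrpCat.isZero_of_subsingleton _

end Groth.DualShriek
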