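import Groth.Agent.DerivedCoh.Duality.Braid
import Groth.Agent.Misc4.RHomTensor

/-!
Tensoring with a complex isomorphic to the structure sheaf.
-/

universe u

open CategoryTheory CategoryTheory.Limits AlgebraicGeometry HomologicalComplex

attribute [local instance] HasDerivedCategory.standard

set_option backward.isDefEq.respectTransparency false

namespace Groth.DualShriek

open Groth.DerivedCoh.KFlat (T IsKFlat tot totL totR flatResolution flatResolutionAug)
open Groth.DerivedCoh.Duality (unitN brIso br_natural lamTot lamTot_hom_f lamX lam lam_natural sx inc)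

local notation "up" => ComplexShape.up ℤ

variable {X : Scheme.{u}}

theorem lamTot_natural {V V' : CochainComplex X.Modules ℤ} (g : V ⟶ V') :
    g ≫ (lamTot V').hom = (lamTot V).hom ≫ (totR (T X) (unitN X)).map g := by
  refine HomologicalComplex.hom_ext _ _ fun p => ?_
  rw [HomologicalComplex.comp_f, HomologicalComplex.comp_f, lamTot_hom_f, lamTot_hom_f]
  have h1 : inc (unitN X) V 0 p p (zero_add p) ≫ ((totR (T X) (unitN X)).map g).f p =
      ((T X).obj ((unitN X).X 0)).map (g.f p) ≫ inc (unitN X) V' 0 p p (zero_add p) := by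
    simp [inc]
  rw [Category.assoc, h1, ← Category.assoc, ← Category.assoc]
  congr 1
  rw [Iso.eq_inv_comp, ← Category.assoc, Iso.comp_inv_eq]
  simp only [lamX, Iso.trans_hom, Iso.app_hom, Functor.mapIso_hom, Category.assoc]
  rw [NatTrans.naturality_assoc, lam_natural]

/-- `M ⊗ O ≅ M` on complexes, naturally -/
noncomputable def totLUnit : totL (T X) (unitN X) ≅ 𝟭 (CochainComplex X.Modules ℤ) :=
  NatIso.ofComponents (fun M => brIso M (unitN X) ≪≫ (lamTot M).symm) fun {M N} g => by
    have h1 : (totL (T X) (unitN X)).map g ≫ (brIso N (unitN X)).hom =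
        (brIso M (unitN X)).hom ≫ (totR (T X) (unitN X)).map g := br_natural M _ g (𝟙 _)
    simp only [Iso.trans_hom, Iso.symm_hom, Functor.id_map, Category.assoc]
    rw [reassoc_of% h1]
    congr 1
    rw [Iso.comp_inv_eq, Category.assoc]
    exact (((congrArg ((lamTot M).inv ≫ ·) (lamTot_natural g)).trans (Iso.inv_hom_id_assoc _ _))).symm

/-- `- ⊗^L O ≅ id` -/
noncomputable def ltcxUnitNatIso [DCoh.HasLTensorCx (unitN X)] (h : IsKFlat (T X) (unitN X)) :
    DCoh.LTensorCx (unitN X) ≅ 𝟭 (DCoh.D X) :=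
  Localization.liftNatIso DerivedCategory.Q (HomologicalComplex.quasiIso X.Modules up)
    (DerivedCategory.Q ⋙ DCoh.LTensorCx (unitN X)) DerivedCategory.Q _ _
    (Groth.DerivedCoh.KFlat.ltcxNatIso (unitN X) h ≪≫
      Functor.isoWhiskerRight totLUnit DerivedCategory.Q ≪≫ Functor.leftUnitor _)

/-- quasi-isomorphic complexes have the same derived tensor product -/
theorem nonempty_ltcx_of_quasiIso {K L : CochainComplex X.Modules ℤ} (s : K ⟶ L) [QuasiIso s]
    [DCoh.HasLTensorCx K] [DCoh.HasLTensorCx L] : Nonempty (DCoh.LTensorCx K ≅ DCoh.LTensorCx L) := by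
  haveI : ∀ C, IsIso (((Functor.whiskerLeft (flatResolution X)
      (Functor.whiskerRight ((DCoh.tensorCx (X := X)).flip.map s) DerivedCategory.Q)) :
      flatResolution X ⋙ DCoh.tensorCxQ K ⟶ flatResolution X ⋙ DCoh.tensorCxQ L).app C) := fun C => by
    haveI : QuasiIso ((totR (T X) ((flatResolution X).obj C)).map s) :=
      Groth.DerivedCoh.KFlat.quasiIso_totR (T X) (Groth.DerivedCoh.KFlat.flatResolution_isKFlat_flip C) _
    exact (DerivedCategory.isIso_Q_map_iff_quasiIso _ _).2 ‹_›
  haveI := NatIso.isIso_of_isIso_app (Functor.whiskerLeft (flatResolution X)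
      (Functor.whiskerRight ((DCoh.tensorCx (X := X)).flip.map s) DerivedCategory.Q) :
      flatResolution X ⋙ DCoh.tensorCxQ K ⟶ flatResolution X ⋙ DCoh.tensorCxQ L)
  exact ⟨Localization.liftNatIso DerivedCategory.Q (HomologicalComplex.quasiIso X.Modules up)
    (DerivedCategory.Q ⋙ DCoh.LTensorCx K) (DerivedCategory.Q ⋙ DCoh.LTensorCx L) _ _
    (Groth.DerivedCoh.KFlat.ltcxResIso K ≪≫ asIso (Functor.whiskerLeft (flatResolution X)
      (Functor.whiskerRight ((DCoh.tensorCx (X := X)).flip.map s) DerivedCategory.Q)) ≪≫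
      (Groth.DerivedCoh.KFlat.ltcxResIso L).symm)⟩

/-- isomorphic objects have the same derived tensor product -/
theorem nonempty_ltcx_of_iso {K L : CochainComplex X.Modules ℤ} (e : DCoh.toD X K ≅ DCoh.toD X L)
    [DCoh.HasLTensorCx K] [DCoh.HasLTensorCx L] : Nonempty (DCoh.LTensorCx K ≅ DCoh.LTensorCx L) := by
  obtain ⟨A, s, hs, g, hfac⟩ := DerivedCategory.right_fac e.hom
  haveI := hs
  haveI : IsIso (DerivedCategory.Q.map g) := by
    rw [show DerivedCategory.Q.map g = DerivedCategory.Q.map s ≫ e.hom by rw [hfac, IsIso.hom_inv_id_assoc]]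
    infer_instance
  haveI : QuasiIso g := (DerivedCategory.isIso_Q_map_iff_quasiIso _ g).1 inferInstance
  haveI : QuasiIso s := (DerivedCategory.isIso_Q_map_iff_quasiIso _ s).1 inferInstance
  haveI := Groth.DerivedCoh.KFlat.hasLTensorCx A
  exact ⟨(nonempty_ltcx_of_quasiIso s).some.symm ≪≫ (nonempty_ltcx_of_quasiIso g).some⟩

end Groth.DualShriek
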