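import Groth.Agent.DualShriek.PF
import Groth.Agent.DualShriek.Supp
import Groth.Agent.DualShriek.TensorUnit
import Groth.Agent.DualShriek.DQ
import Groth.Agent.Misc4.KillSupported
import Groth.Agent.DerivedCoh.PushPull.Adjunction
import Groth.Agent.Misc4.QCohDColim
import Groth.Agent.Misc4.QCohRpushD

/-!
`Rf_* a = RHom(Rf_*O, -)`.
-/

universe u

open CategoryTheory CategoryTheory.Limits AlgebraicGeometry HomologicalComplex

attribute [local instance] HasDerivedCategory.standard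

set_option backward.isDefEq.respectTransparency false
set_option maxHeartbeats 1000000
set_option synthInstance.maxHeartbeats 400000

namespace Groth.DualShriek

open Groth.DerivedCoh.KFlat (IsKFlat kres kresAug flatResolution flatResolutionAug)
open Groth.DerivedCoh.Duality (unitN)

local notation "up" => ComplexShape.up ℤ

variable {X Y : Scheme.{u}}

/-- the projection formula for the structure sheaf -/
theorem exists_pf_unit (f : X ⟶ Y) [QuasiCompact f] [QuasiSeparated f] [DCoh.HasRpush f] [DCoh.HasLpull f]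
    (E : CochainComplex Y.Modules ℤ) [DCoh.HasLTensorCx E]
    (hE : Nonempty (DCoh.toD Y E ≅ (DCoh.Rpush f).obj (DCoh.toD X (unitN X)))) :
    ∃ p : DCoh.LTensorCx E ⟶ DCoh.Lpull f ⋙ DCoh.Rpush f, ∀ M, DCoh.IsQCohD M → IsIso (p.app M) := by
  let I := (kres X).obj (unitN X)
  have hI : IsIso (DerivedCategory.Q.map ((kresAug X).app (unitN X))) := isIso_Q _ inferInstance
  have hu : IsKFlat (Groth.DerivedCoh.KFlat.T X) (unitN X) := Groth.DerivedCoh.PCoh.isKFlat_of_isStrictlyPerfect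
    (Groth.DerivedCoh.Duality.isStrictlyPerfect_single (Groth.LocFree.isFinLocFree_unit X) 0)
  have hIq : DCoh.IsQCohD (DCoh.toD X I) := by
    haveI : (Coh.structureModule X).IsQuasicoherent :=
      Groth.KTheory.LocFree.isQCoh (Groth.LocFree.isFinLocFree_unit X)
    exact Groth.Misc4.QCohDPerf.isQCohD_of_iso
      ((DerivedCategory.singleFunctorIsoCompQ _ 0).app (Coh.structureModule X) ≪≫
        @asIso _ _ _ _ (DerivedCategory.Q.map ((kresAug X).app (unitN X))) hI)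
      (Groth.Misc4.QCohDColim.isQCohD_single _ 0)
  haveI := Groth.DerivedCoh.KFlat.hasLTensorCx ((flatResolution X).obj I)
  haveI := Groth.DerivedCoh.KFlat.hasLTensorCx (unitN X)
  haveI := Groth.DerivedCoh.KFlat.hasLTensorCx (dirF f I)
  haveI hπ := isIso_Q ((flatResolutionAug X).app I) (Groth.DerivedCoh.KFlat.flatResolution_quasiIso I)
  obtain ⟨w⟩ := nonempty_ltcx_of_iso (K := (flatResolution X).obj I) (L := unitN X)
    (asIso (DerivedCategory.Q.map ((flatResolutionAug X).app I)) ≪≫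
      (@asIso _ _ _ _ (DerivedCategory.Q.map ((kresAug X).app (unitN X))) hI).symm)
  haveI hπ' := isIso_Q ((flatResolutionAug Y).app ((Groth.DerivedCoh.KFlat.pushCx f).obj I))
    (Groth.DerivedCoh.KFlat.flatResolution_quasiIso _)
  obtain ⟨v⟩ := nonempty_ltcx_of_iso (K := E) (L := dirF f I)
    (hE.some ≪≫ (DCoh.Rpush f).mapIso (@asIso _ _ _ _ (DerivedCategory.Q.map ((kresAug X).app (unitN X))) hI) ≪≫
      pushQIso f I ≪≫ (@asIso _ _ _ _ _ hπ').symm)
  haveI : I.IsKInjective := inferInstance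
  let j : DCoh.Lpull f ⋙ DCoh.LTensorCx ((flatResolution X).obj I) ⋙ DCoh.Rpush f ≅
      DCoh.Lpull f ⋙ DCoh.Rpush f :=
    Functor.isoWhiskerLeft (DCoh.Lpull f)
      (Functor.isoWhiskerRight (w ≪≫ ltcxUnitNatIso hu) (DCoh.Rpush f) ≪≫ Functor.leftUnitor _)
  refine ⟨v.hom ≫ pfHom f I ≫ j.hom, fun M hM => ?_⟩
  haveI := isIso_pfHom f I hIq M hM
  simp only [NatTrans.comp_app]
  infer_instance

variable (f : X ⟶ Y) [DCoh.HasRpush f] [DCoh.HasLpull f]

/-- **Sheafified duality**: a natural map `Rf_*a ⟶ RHom(Rf_*O, -)`, invertible where the target is quasi-coherent. -/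
theorem exists_sheafDuality [QuasiCompact f] [QuasiSeparated f] (h : DCoh.RpushPreservesQCoh f)
    (a : DCoh.DQCoh Y ⥤ DCoh.DQCoh X) (adj : DCoh.RpushQ f h ⊣ a)
    (E : CochainComplex Y.Modules ℤ) [DCoh.HasLTensorCx E] [DCoh.HasRSheafHom E]
    (hE : Nonempty (DCoh.toD Y E ≅ (DCoh.Rpush f).obj (DCoh.toD X (unitN X)))) :
    ∃ α : a ⋙ DCoh.RpushQ f h ⋙ ObjectProperty.ι _ ⟶ ObjectProperty.ι _ ⋙ DCoh.RSheafHom E,
      ∀ Q, DCoh.IsQCohD ((DCoh.RSheafHom E).obj Q.obj) → IsIso (α.app Q) := by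
  obtain ⟨p, hp⟩ := exists_pf_unit f E hE
  let adjG := Groth.DerivedCoh.PushPull.lpullRpushAdj f
  let adjE := DCoh.RSheafHomAdj E
  let up' : ∀ (M : DCoh.DQCoh Y) (Q : DCoh.DQCoh Y),
      (M.obj ⟶ (DCoh.Rpush f).obj (a.obj Q).obj) → (M.obj ⟶ (DCoh.RSheafHom E).obj Q.obj) := fun M Q x =>
    adjE.homEquiv _ _ (p.app M.obj ≫ ((adj.homEquiv
      ⟨(DCoh.Lpull f).obj M.obj, Groth.Misc4.QCohDColim.isQCohD_Lpull f M.property⟩ Q).symm
      (ObjectProperty.homMk ((adjG.homEquiv _ _).symm x))).hom)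
  have hl : ∀ {M M' : DCoh.DQCoh Y} (m : M ⟶ M') (Q) (x : M'.obj ⟶ (DCoh.Rpush f).obj (a.obj Q).obj),
      up' M Q (m.hom ≫ x) = m.hom ≫ up' M' Q x := fun {M M'} m Q x => by
    simp only [up']
    rw [← adjE.homEquiv_naturality_left]
    congr 1
    rw [adjG.homEquiv_naturality_left_symm]
    let m' : (⟨(DCoh.Lpull f).obj M.obj, Groth.Misc4.QCohDColim.isQCohD_Lpull f M.property⟩ : DCoh.DQCoh X) ⟶
        ⟨(DCoh.Lpull f).obj M'.obj, Groth.Misc4.QCohDColim.isQCohD_Lpull f M'.property⟩ :=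
      ObjectProperty.homMk ((DCoh.Lpull f).map m.hom)
    have e : (ObjectProperty.homMk ((DCoh.Lpull f).map m.hom ≫ (adjG.homEquiv _ _).symm x) :
        (⟨(DCoh.Lpull f).obj M.obj, Groth.Misc4.QCohDColim.isQCohD_Lpull f M.property⟩ : DCoh.DQCoh X) ⟶ a.obj Q) =
        m' ≫ ObjectProperty.homMk ((adjG.homEquiv _ _).symm x) := rfl
    rw [e, adj.homEquiv_naturality_left_symm]
    exact ((reassoc_of% (p.naturality m.hom)) _).symm
  have hr : ∀ (M : DCoh.DQCoh Y) {Q Q' : DCoh.DQCoh Y} (g : Q ⟶ Q') (x : M.obj ⟶ (DCoh.Rpush f).obj (a.obj Q).obj),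
      up' M Q' (x ≫ (DCoh.Rpush f).map (a.map g).hom) = up' M Q x ≫ (DCoh.RSheafHom E).map g.hom :=
    fun M {Q Q'} g x => by
    simp only [up']
    rw [← adjE.homEquiv_naturality_right]
    congr 1
    rw [Category.assoc, adjG.homEquiv_naturality_right_symm]
    congr 1
    exact congrArg (fun q => q.hom) (adj.homEquiv_naturality_right_symm
      (X := ⟨(DCoh.Lpull f).obj M.obj, Groth.Misc4.QCohDColim.isQCohD_Lpull f M.property⟩)
      (ObjectProperty.homMk ((adjG.homEquiv _ _).symm x)) g)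
  have hbij : ∀ M Q, Function.Bijective (up' M Q) := fun M Q => by
    haveI := hp M.obj M.property
    refine (adjE.homEquiv _ _).bijective.comp ⟨fun x y hxy => ?_, fun y => ?_⟩
    · have h1 := ObjectProperty.hom_ext _ ((cancel_epi (p.app M.obj)).1 hxy)
      exact (adjG.homEquiv _ _).symm.injective (congrArg (fun q => q.hom) ((adj.homEquiv _ Q).symm.injective h1))
    · let z : (DCoh.RpushQ f h).obj ⟨(DCoh.Lpull f).obj M.obj,
          Groth.Misc4.QCohDColim.isQCohD_Lpull f M.property⟩ ⟶ Q := ObjectProperty.homMk (inv (p.app M.obj) ≫ y)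
      refine ⟨adjG.homEquiv _ _ (adj.homEquiv _ Q z).hom, ?_⟩
      simp only [Equiv.symm_apply_apply]
      show p.app M.obj ≫ ((adj.homEquiv _ Q).symm (adj.homEquiv _ Q z)).hom = y
      rw [Equiv.symm_apply_apply]
      exact IsIso.hom_inv_id_assoc _ _
  let G₁ : DCoh.DQCoh Y ⥤ DCoh.DQCoh Y := a ⋙ DCoh.RpushQ f h
  refine ⟨{ app := fun Q => up' (G₁.obj Q) Q (𝟙 _)
            naturality := fun Q Q' g => ?_ }, fun Q hQ => ?_⟩
  · show (G₁.map g).hom ≫ up' (G₁.obj Q') Q' (𝟙 _) = up' (G₁.obj Q) Q (𝟙 _) ≫ _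
    rw [← hl (G₁.map g) Q' (𝟙 _), Category.comp_id]
    exact (congrArg (up' (G₁.obj Q) Q') (Category.id_comp _).symm).trans (hr (G₁.obj Q) g (𝟙 _))
  · let G₂ : DCoh.DQCoh Y := ⟨(DCoh.RSheafHom E).obj Q.obj, hQ⟩
    show IsIso (up' (G₁.obj Q) Q (𝟙 _))
    have he : ∀ (M : DCoh.DQCoh Y) (x : M ⟶ G₁.obj Q),
        up' M Q x.hom = x.hom ≫ up' (G₁.obj Q) Q (𝟙 _) := fun M x => by
      rw [← hl x Q (𝟙 _), Category.comp_id]
    obtain ⟨β, hβ⟩ := (hbij G₂ Q).2 (𝟙 _)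
    have h1 : β ≫ up' (G₁.obj Q) Q (𝟙 _) = 𝟙 _ := (he G₂ (ObjectProperty.homMk β)).symm.trans hβ
    refine ⟨β, (hbij (G₁.obj Q) Q).1 ?_, h1⟩
    refine (he (G₁.obj Q) (ObjectProperty.homMk (up' (G₁.obj Q) Q (𝟙 _) ≫ β))).trans ?_
    show (up' (G₁.obj Q) Q (𝟙 _) ≫ β) ≫ up' (G₁.obj Q) Q (𝟙 _) = _
    rw [Category.assoc, h1, Category.comp_id]

end Groth.DualShriek
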