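import Groth.Agent.DerivedCoh.KFlat.RpushComp
import Groth.Agent.DerivedCoh.PushPull.Adjunction
import Groth.Agent.RelPC.PnPush.Global
import Groth.Agent.Misc4.QCohRpushD
import Groth.Agent.DualShriek.DQ

/-!
Right adjoints of `Rf_*` along isomorphisms of the source.
-/

universe u

open CategoryTheory CategoryTheory.Limits AlgebraicGeometry

attribute [local instance] HasDerivedCategory.standard

set_option backward.isDefEq.respectTransparency false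

namespace Groth.DualShriek

variable {X X' Y : Scheme.{u}}

/-- `Rf_*` depends only on the morphism -/
theorem nonempty_Rpush_congr' {f g : X ⟶ Y} (h : f = g) [DCoh.HasRpush f] [DCoh.HasRpush g] :
    Nonempty (DCoh.Rpush f ≅ DCoh.Rpush g) := by
  subst h
  exact ⟨Iso.refl _⟩

/-- Right adjoints of `Rf_*` transport along an isomorphism of sources; the values are pulled back. -/
theorem exists_transport (ι : X ≅ X') (f : X ⟶ Y) (f' : X' ⟶ Y) (hι : ι.hom ≫ f' = f)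
    [DCoh.HasRpush f] [DCoh.HasRpush f'] [DCoh.HasLpull ι.hom] (h : DCoh.RpushPreservesQCoh f)
    (h' : DCoh.RpushPreservesQCoh f') (a : DCoh.DQCoh Y ⥤ DCoh.DQCoh X) (adj : DCoh.RpushQ f h ⊣ a) :
    ∃ (a' : DCoh.DQCoh Y ⥤ DCoh.DQCoh X') (_ : DCoh.RpushQ f' h' ⊣ a'),
      ∀ K, Nonempty ((a.obj K).obj ≅ (DCoh.Lpull ι.hom).obj (a'.obj K).obj) := by
  haveI : DCoh.HasRpush ι.hom := Groth.Misc4.PushRestrict.hasRightDerived _
  haveI : DCoh.HasRpush ι.inv := Groth.Misc4.PushRestrict.hasRightDerived _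
  haveI : DCoh.HasRpush (ι.inv ≫ f) := Groth.Misc4.PushRestrict.hasRightDerived _
  haveI : DCoh.HasRpush (ι.hom ≫ ι.inv) := Groth.Misc4.PushRestrict.hasRightDerived _
  haveI : DCoh.HasRpush (ι.inv ≫ ι.hom) := Groth.Misc4.PushRestrict.hasRightDerived _
  haveI : DCoh.HasRpush (𝟙 X) := Groth.Misc4.PushRestrict.hasRightDerived _
  haveI : DCoh.HasRpush (𝟙 X') := Groth.Misc4.PushRestrict.hasRightDerived _
  have hq : ∀ {A B : Scheme.{u}} (g : A ⟶ B) [DCoh.HasRpush g] [QuasiCompact g] [QuasiSeparated g],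
      DCoh.RpushPreservesQCoh g := fun g _ _ _ K hK => Groth.Misc4.QCohRpushD.isQCohD g K hK
  let F₀ := DCoh.RpushQ ι.inv (hq ι.inv)
  let G₀ := DCoh.RpushQ ι.hom (hq ι.hom)
  obtain ⟨c₁⟩ := Groth.DerivedCoh.KFlat.Rpush_comp_iso ι.inv ι.hom
  obtain ⟨c₂⟩ := Groth.DerivedCoh.KFlat.Rpush_comp_iso ι.hom ι.inv
  obtain ⟨c₃⟩ := Groth.DerivedCoh.KFlat.Rpush_comp_iso ι.inv f
  obtain ⟨i₁⟩ := Groth.RelPC.PnPush.nonempty_Rpush_id X'
  obtain ⟨i₂⟩ := Groth.RelPC.PnPush.nonempty_Rpush_id X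
  obtain ⟨d₁⟩ := nonempty_Rpush_congr' ι.inv_hom_id
  obtain ⟨d₂⟩ := nonempty_Rpush_congr' ι.hom_inv_id
  obtain ⟨d₃⟩ := nonempty_Rpush_congr' (show ι.inv ≫ f = f' by rw [← hι, Iso.inv_hom_id_assoc])
  let η : 𝟭 (DCoh.DQCoh X') ≅ F₀ ⋙ G₀ :=
    (ObjectProperty.fullyFaithfulι _).whiskeringRight _ |>.preimageIso
      ((Functor.leftUnitor _) ≪≫ (Functor.rightUnitor _).symm ≪≫
        Functor.isoWhiskerLeft (DCoh.IsQCohD (X := X')).ι (c₁ ≪≫ d₁ ≪≫ i₁).symm)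
  let ε : G₀ ⋙ F₀ ≅ 𝟭 (DCoh.DQCoh X) :=
    (ObjectProperty.fullyFaithfulι _).whiskeringRight _ |>.preimageIso
      (Functor.isoWhiskerLeft (DCoh.IsQCohD (X := X)).ι (c₂ ≪≫ d₂ ≪≫ i₂) ≪≫ (Functor.rightUnitor _) ≪≫
        (Functor.leftUnitor _).symm : (DCoh.IsQCohD (X := X)).ι ⋙ DCoh.Rpush ι.hom ⋙ DCoh.Rpush ι.inv ≅ _)
  let E : DCoh.DQCoh X' ≌ DCoh.DQCoh X := CategoryTheory.Equivalence.mk F₀ G₀ η ε
  let w : E.functor ⋙ DCoh.RpushQ f h ≅ DCoh.RpushQ f' h' :=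
    (ObjectProperty.fullyFaithfulι _).whiskeringRight _ |>.preimageIso
      (Functor.isoWhiskerLeft (ObjectProperty.ι _) (c₃ ≪≫ d₃))
  refine ⟨a ⋙ E.inverse, (E.toAdjunction.comp adj).ofNatIsoLeft w, fun K => ?_⟩
  haveI : (DCoh.Rpush ι.hom).IsEquivalence :=
    (CategoryTheory.Equivalence.mk (DCoh.Rpush ι.hom) (DCoh.Rpush ι.inv) (c₂ ≪≫ d₂ ≪≫ i₂).symm
      (c₁ ≪≫ d₁ ≪≫ i₁)).isEquivalence_functor
  exact ⟨(asIso ((Groth.DerivedCoh.PushPull.lpullRpushAdj ι.hom).counit.app (a.obj K).obj)).symm⟩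

end Groth.DualShriek
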